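import Mathlib
import Cfsg.Agent.H13.TIExceptional
import Cfsg.Agent.H81.Fitting

/-!
A nilpotent TI Hall subgroup of even order containing the centralisers of its elements: its
involutions are central, form one class, and their products with outside involutions avoid the
conjugates of the subgroup.
-/

set_option autoImplicit false
set_option linter.unusedSectionVars false
set_option linter.style.haveILetI false

namespace H22.CN

open Subgroup

universe u

variable {G : Type u} [Group G] [Fintype G]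

/-- A nilpotent TI Hall subgroup of even order, not normal, with centralisers inside. -/
structure Setting (H : Subgroup G) : Prop where
  hyp : H13.TI.Hyp H
  nilp : Group.IsNilpotent H
  cop : (Nat.card H).Coprime H.index
  even : 2 ∣ Nat.card H
  proper : normalizer (H : Set G) ≠ ⊤

variable {H : Subgroup G}

theorem orderOf_eq_two_of {u : G} (h : u * u = 1) (h1 : u ≠ 1) : orderOf u = 2 :=
  orderOf_eq_prime (by rw [sq]; exact h) h1

theorem mul_self_eq_one {u : G} (h : orderOf u = 2) : u * u = 1 := by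
  rw [← sq, ← h]; exact pow_orderOf_eq_one u

theorem ne_one_of_two {u : G} (h : orderOf u = 2) : u ≠ 1 := fun e => by
  rw [e, orderOf_one] at h; omega

theorem orderOf_conj_eq (g u : G) : orderOf (g * u * g⁻¹) = orderOf u :=
  orderOf_injective (MulAut.conj g).toMonoidHom (MulAut.conj g).injective u

namespace Setting

variable (hs : Setting H)
include hs

theorem odd_relIndex : Odd (H.relIndex (normalizer (H : Set G))) := by
  have h : H.relIndex (normalizer (H : Set G)) ∣ H.index :=
    Dvd.intro _ (relIndex_mul_index le_normalizer)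
  have h2 : ¬ 2 ∣ H.index := fun h2 =>
    Nat.prime_two.not_dvd_one (hs.cop ▸ Nat.dvd_gcd hs.even h2)
  exact Nat.odd_iff.mpr (Nat.two_dvd_ne_zero.mp fun h3 => h2 (h3.trans h))

theorem invol_mem {u : G} (hu : orderOf u = 2) (huN : u ∈ normalizer (H : Set G)) : u ∈ H := by
  haveI : (H.subgroupOf (normalizer (H : Set G))).Normal := normal_in_normalizer
  have h := Subgroup.pow_index_mem (H.subgroupOf (normalizer (H : Set G))) ⟨u, huN⟩
  rw [mem_subgroupOf] at h
  obtain ⟨k, hk⟩ := hs.odd_relIndex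
  have e : (H.subgroupOf (normalizer (H : Set G))).index = 2 * k + 1 := hk
  rw [e] at h
  simpa [pow_succ, pow_mul, sq, mul_self_eq_one hu] using h

theorem commute_of_coprime {x y : G} (hx : x ∈ H) (hy : y ∈ H)
    (hc : (orderOf x).Coprime (orderOf y)) : x * y = y * x := by
  have h := H81.commute_of_coprime_orderOf hs.nilp (x := ⟨x, hx⟩) (y := ⟨y, hy⟩)
    (by rwa [Subgroup.orderOf_mk, Subgroup.orderOf_mk])
  exact congrArg Subtype.val h

theorem conj_mem_iff {g x : G} (hg : g ∈ normalizer (H : Set G)) :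
    g * x * g⁻¹ ∈ H ↔ x ∈ H := ((mem_normalizer_iff.1 hg) x).symm

/-- No involution inverts an odd element of `H`. -/
theorem not_inverted {u x : G} (hu : orderOf u = 2) (hx : x ∈ H) (hx1 : x ≠ 1)
    (ho : Odd (orderOf x)) (hinv : u * x * u⁻¹ = x⁻¹) : False := by
  have huN := hs.hyp.ti u x hx hx1 (hinv ▸ inv_mem hx)
  have hc : u * x = x * u := hs.commute_of_coprime (hs.invol_mem hu huN) hx
    (by rw [hu]; exact (Nat.coprime_two_left).2 ho)
  have hxx : x * x = 1 := by
    have : x = x⁻¹ := by rw [← hinv, hc, mul_inv_cancel_right]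
    exact mul_eq_one_iff_eq_inv.2 this
  have := orderOf_eq_two_of hxx hx1
  rw [this] at ho
  exact absurd ho (by decide)

theorem cent_mem {x g : G} (hx : x ∈ H) (hx1 : x ≠ 1) (h : g * x = x * g) : g ∈ H :=
  hs.hyp.cent g x hx hx1 h

/-- The product of an involution of `H` and one outside has odd order. -/
theorem odd_order_mul {t u : G} (ht : orderOf t = 2) (htH : t ∈ H) (hu : orderOf u = 2)
    (huH : u ∉ H) : Odd (orderOf (t * u)) := by
  by_contra hodd
  obtain ⟨m, hm⟩ := Nat.not_odd_iff_even.1 hodd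
  have hpos := orderOf_pos (t * u)
  set z := (t * u) ^ m with hz
  have hz1 : z ≠ 1 := fun e => by
    have := Nat.le_of_dvd (by omega) (orderOf_dvd_of_pow_eq_one (hz ▸ e))
    omega
  have hzz : z * z = 1 := by rw [hz, ← pow_add, ← hm, pow_orderOf_eq_one]
  have ht' : t⁻¹ = t := inv_eq_of_mul_eq_one_right (mul_self_eq_one ht)
  have hu' : u⁻¹ = u := inv_eq_of_mul_eq_one_right (mul_self_eq_one hu)
  have hzi : z⁻¹ = z := inv_eq_of_mul_eq_one_right hzz
  have e1 : ∀ s : G, s * (t * u) * s⁻¹ = (t * u)⁻¹ → s * z = z * s := by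
    intro s e
    have : s * z * s⁻¹ = z := by
      rw [hz, ← conj_pow, e, inv_pow, ← hz, hzi]
    exact mul_inv_eq_iff_eq_mul.1 this
  have hct : t * z = z * t := e1 t (by
    rw [mul_inv_rev, hu', ht', ← mul_assoc, mul_self_eq_one ht, one_mul])
  have hcu : u * z = z * u := e1 u (by
    rw [mul_inv_rev, hu', ht', mul_assoc, mul_assoc, mul_self_eq_one hu, mul_one])
  have hzH : z ∈ H := hs.cent_mem htH (ne_one_of_two ht) hct.symm
  exact huH (hs.cent_mem hzH hz1 hcu)

theorem conj_outside {t u : G} (ht : orderOf t = 2) (htH : t ∈ H) (hu : orderOf u = 2)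
    (huH : u ∉ H) : ∃ g : G, u = g * t * g⁻¹ := by
  obtain ⟨k, hk⟩ := hs.odd_order_mul ht htH hu huH
  set w := t * u with hw
  have ht' : t⁻¹ = t := inv_eq_of_mul_eq_one_right (mul_self_eq_one ht)
  have htw : t * w * t⁻¹ = w⁻¹ := by
    rw [hw, mul_inv_rev, inv_eq_of_mul_eq_one_right (mul_self_eq_one hu), ht',
      ← mul_assoc, mul_self_eq_one ht, one_mul]
  refine ⟨w ^ k, ?_⟩
  have hwn : w ^ (2 * k + 1) = 1 := by rw [← hk, pow_orderOf_eq_one]
  have h1 : t * w ^ (k + 1) * t⁻¹ = w ^ k := by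
    rw [← conj_pow, htw, inv_pow]
    apply inv_eq_of_mul_eq_one_right
    rw [← pow_add, ← hwn]
    congr 1
    omega
  calc u = t * w := by rw [hw, ← mul_assoc, mul_self_eq_one ht, one_mul]
    _ = t * (w ^ (k + 1) * (w ^ k)⁻¹) := by rw [pow_succ']; group
    _ = (t * w ^ (k + 1) * t⁻¹) * t * (w ^ k)⁻¹ := by group
    _ = w ^ k * t * (w ^ k)⁻¹ := by rw [h1]

theorem exists_outside {t : G} (ht : orderOf t = 2) (htH : t ∈ H) :
    ∃ u : G, orderOf u = 2 ∧ u ∉ H := by
  obtain ⟨g, hg⟩ : ∃ g, g ∉ normalizer (H : Set G) := by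
    by_contra h
    push Not at h
    exact hs.proper (eq_top_iff.2 fun x _ => h x)
  exact ⟨g * t * g⁻¹, (orderOf_conj_eq g t).trans ht, fun h =>
    hg (hs.hyp.ti g t htH (ne_one_of_two ht) h)⟩

/-- The involutions of `H` are conjugate in the normaliser. -/
theorem conj_invol {t u : G} (ht : orderOf t = 2) (htH : t ∈ H) (hu : orderOf u = 2)
    (huH : u ∈ H) : ∃ x ∈ normalizer (H : Set G), u = x * t * x⁻¹ := by
  obtain ⟨v, hv, hvH⟩ := hs.exists_outside ht htH
  obtain ⟨g, hg⟩ := hs.conj_outside ht htH hv hvH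
  obtain ⟨g', hg'⟩ := hs.conj_outside hu huH hv hvH
  have e : u = (g'⁻¹ * g) * t * (g'⁻¹ * g)⁻¹ := by
    calc u = g'⁻¹ * (g' * u * g'⁻¹) * g' := by group
      _ = g'⁻¹ * (g * t * g⁻¹) * g' := by rw [← hg', hg]
      _ = _ := by group
  exact ⟨_, hs.hyp.ti _ t htH (ne_one_of_two ht) (e ▸ huH), e⟩

theorem exists_invol : ∃ t : G, orderOf t = 2 ∧ t ∈ H := by
  haveI : Fact (Nat.Prime 2) := ⟨Nat.prime_two⟩
  obtain ⟨t, ht⟩ := exists_prime_orderOf_dvd_card' (G := H) 2 hs.even
  exact ⟨t, by rwa [orderOf_coe], t.2⟩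

/-- The involutions of `H` are central in `H`. -/
theorem invol_central {u : G} (hu : orderOf u = 2) (huH : u ∈ H) :
    ∀ x ∈ H, x * u = u * x := by
  classical
  haveI : Fact (Nat.Prime 2) := ⟨Nat.prime_two⟩
  haveI := hs.nilp
  -- a central involution
  obtain ⟨S⟩ : Nonempty (Sylow 2 H) := inferInstance
  have hS0 : (S : Subgroup H) ≠ ⊥ := S.ne_bot_of_dvd_card hs.even
  haveI : Nontrivial (S : Subgroup H) := (nontrivial_iff_ne_bot _).2 hS0
  haveI := S.isPGroup'.center_nontrivial
  have hc2 : 2 ∣ Nat.card (Subgroup.center (S : Subgroup H)) := by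
    obtain ⟨n, hn, hn'⟩ := (S.isPGroup'.to_subgroup _).nontrivial_iff_card.1
      (inferInstance : Nontrivial (Subgroup.center (S : Subgroup H)))
    exact hn' ▸ dvd_pow_self 2 (by omega)
  obtain ⟨c, hc⟩ := exists_prime_orderOf_dvd_card' (G := Subgroup.center (S : Subgroup H)) 2 hc2
  set z : G := (((c : (S : Subgroup H)) : H) : G) with hz
  have hz2 : orderOf z = 2 := by rw [hz, orderOf_coe, orderOf_coe, orderOf_coe, hc]
  have hzH : z ∈ H := ((c : (S : Subgroup H)) : H).2
  have hzc : ∀ x ∈ H, x * z = z * x := by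
    intro x hx
    have hSn : (S : Subgroup H).Normal := by
      have h := (Group.isNilpotent_of_finite_tfae (G := H)).out 0 3
      exact h.mp hs.nilp 2 inferInstance S
    -- `x` is a product of a 2-element and an odd element
    set n := orderOf x with hn
    obtain ⟨k, m, hm, hkm⟩ := Nat.exists_eq_two_pow_mul_odd (orderOf_pos x).ne'
    have hcop : Nat.Coprime (2 ^ k) m := Nat.Coprime.pow_left k (Nat.coprime_two_left.2 hm)
    have hodd : z * x ^ (2 ^ k) = x ^ (2 ^ k) * z := hs.commute_of_coprime hzH (pow_mem hx _) (by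
      rw [hz2]
      refine Nat.coprime_two_left.2 (hm.of_dvd_nat (orderOf_dvd_of_pow_eq_one ?_))
      rw [← pow_mul, ← hkm, pow_orderOf_eq_one])
    have htwo : z * x ^ m = x ^ m * z := by
      have hmem : (⟨x ^ m, pow_mem hx _⟩ : H) ∈ (S : Subgroup H) := by
        have hp : IsPGroup 2 (zpowers (⟨x ^ m, pow_mem hx _⟩ : H)) := by
          refine IsPGroup.iff_card.2 ?_
          rw [Nat.card_zpowers, Subgroup.orderOf_mk]
          obtain ⟨j, -, hj⟩ := (Nat.dvd_prime_pow Nat.prime_two).1
            (orderOf_dvd_of_pow_eq_one (show (x ^ m) ^ (2 ^ k) = 1 by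
              rw [← pow_mul, mul_comm, ← hkm, pow_orderOf_eq_one]))
          exact ⟨j, hj⟩
        obtain ⟨T, hT⟩ := hp.exists_le_sylow
        have := Sylow.unique_of_normal S hSn
        exact (Subsingleton.elim T S) ▸ hT (mem_zpowers _)
      have := (Subgroup.mem_center_iff.1 c.2 ⟨_, hmem⟩).symm
      exact congrArg (fun y : (S : Subgroup H) => ((y : H) : G)) this
    have hgcd : x = x ^ Nat.gcd (2 ^ k) m := by rw [hcop.gcd_eq_one, pow_one]
    have hzx : Commute z x := by
      rw [hgcd, ← zpow_natCast, Nat.gcd_eq_gcd_ab, zpow_add, zpow_mul, zpow_mul, zpow_natCast,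
        zpow_natCast]
      exact ((show Commute z (x ^ (2 ^ k)) from hodd).zpow_right _).mul_right
        ((show Commute z (x ^ m) from htwo).zpow_right _)
    exact hzx.symm.eq
  intro x hx
  obtain ⟨g, hg, rfl⟩ := hs.conj_invol hz2 hzH hu huH
  have hx' : g⁻¹ * x * g ∈ H := by
    have := (hs.conj_mem_iff (inv_mem hg) (x := x)).2 hx
    simpa using this
  have := hzc _ hx'
  calc x * (g * z * g⁻¹) = g * ((g⁻¹ * x * g) * z) * g⁻¹ := by group
    _ = g * (z * (g⁻¹ * x * g)) * g⁻¹ := by rw [this]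
    _ = g * z * g⁻¹ * x := by group

theorem mul_invol {t u : G} (ht : orderOf t = 2) (htH : t ∈ H) (hu : orderOf u = 2) (huH : u ∈ H)
    (hne : t ≠ u) : orderOf (t * u) = 2 := by
  refine orderOf_eq_two_of ?_ fun e => hne ?_
  · have := hs.invol_central ht htH u huH
    calc t * u * (t * u) = t * (u * t) * u := by group
      _ = t * (t * u) * u := by rw [this]
      _ = (t * t) * (u * u) := by group
      _ = 1 := by rw [mul_self_eq_one ht, mul_self_eq_one hu, one_mul]
  · rw [mul_eq_one_iff_eq_inv.1 e, inv_eq_of_mul_eq_one_right (mul_self_eq_one hu)]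

/-- The product with an outside involution lies in no conjugate of `H`. -/
theorem not_mem_conj {t u : G} (ht : orderOf t = 2) (htH : t ∈ H) (hu : orderOf u = 2)
    (huH : u ∉ H) (g : G) : g * (t * u) * g⁻¹ ∉ H := by
  intro h
  have hne : t * u ≠ 1 := fun e => huH (by
    rw [← inv_eq_of_mul_eq_one_right e]; exact inv_mem htH)
  refine hs.not_inverted ((orderOf_conj_eq g t).trans ht) h
    (fun e => hne ((MulAut.conj g).injective (by simpa using e)))
    (by rw [orderOf_conj_eq]; exact hs.odd_order_mul ht htH hu huH) ?_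
  calc g * t * g⁻¹ * (g * (t * u) * g⁻¹) * (g * t * g⁻¹)⁻¹
      = g * ((t * t) * u * t⁻¹) * g⁻¹ := by group
    _ = g * (u * t⁻¹) * g⁻¹ := by rw [mul_self_eq_one ht, one_mul]
    _ = (g * (t * u) * g⁻¹)⁻¹ := by
        rw [← inv_eq_of_mul_eq_one_right (mul_self_eq_one hu)]
        group
        simp [inv_eq_of_mul_eq_one_right (mul_self_eq_one hu)]

end Setting

end H22.CN
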