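import Mathlib
import Cfsg.Agent.H22.CN.Setting
import Cfsg.Agent.H13.Linear
import Cfsg.Agent.H12.Transport

/-!
The characters `σ ⊗ δ` of `H = S × D` with `δ` linear and non-trivial, the action of the
normaliser on them, and the values of the induced class functions.
-/

set_option autoImplicit false
set_option linter.unusedSectionVars false
set_option linter.style.haveILetI false

open Cfsg
open scoped ComplexConjugate

namespace H22.CN

universe u

variable {G : Type u} [Group G] [Fintype G] {H : Subgroup G}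

/-- A decomposition `H = S × D` into a 2-group and a non-trivial group of odd order. -/
structure Split (H : Subgroup G) where
  S : Subgroup H
  D : Subgroup H
  hS : IsPGroup 2 S
  hD : Odd (Nat.card D)
  hD1 : D ≠ ⊥
  φ : H ≃* S × D

theorem exists_split (hs : Setting H) (hnot : ¬ IsPGroup 2 H) : Nonempty (Split H) := by
  haveI : Fact (Nat.Prime 2) := ⟨Nat.prime_two⟩
  obtain ⟨S⟩ : Nonempty (Sylow 2 H) := inferInstance
  have hSn : (S : Subgroup H).Normal := by
    have h := (Group.isNilpotent_of_finite_tfae (G := H)).out 0 3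
    exact h.mp hs.nilp 2 inferInstance S
  obtain ⟨D, hD⟩ := Subgroup.exists_right_complement'_of_coprime (N := (S : Subgroup H))
    S.card_coprime_index
  have hDc : Nat.card D = (S : Subgroup H).index := hD.symm.card_left.symm ▸ rfl
  have hodd : Odd (Nat.card D) :=
    Nat.odd_iff.2 (Nat.two_dvd_ne_zero.1 (hDc ▸ S.not_dvd_index))
  have hcomm : ∀ (a : (S : Subgroup H)) (b : D),
      Commute ((S : Subgroup H).subtype a) (D.subtype b) := fun a b => by
    refine H81.commute_of_coprime_orderOf hs.nilp ?_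
    rw [Subgroup.subtype_apply, Subgroup.subtype_apply, Subgroup.orderOf_coe, Subgroup.orderOf_coe]
    obtain ⟨k, hk⟩ := IsPGroup.iff_orderOf.1 S.isPGroup' a
    rw [hk]
    exact Nat.Coprime.pow_left k (Nat.coprime_two_left.2 (hodd.of_dvd_nat (orderOf_dvd_natCard b)))
  let f : ↥(S : Subgroup H) × ↥D →* H :=
    MonoidHom.noncommCoprod (S : Subgroup H).subtype D.subtype hcomm
  have hf : Function.Bijective f := by exact hD
  refine ⟨⟨(S : Subgroup H), D, S.isPGroup', hodd, fun e => hnot ?_,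
    (MulEquiv.ofBijective f hf).symm⟩⟩
  subst e
  refine IsPGroup.iff_card.2 ?_
  obtain ⟨n, hn⟩ := IsPGroup.iff_card.1 S.isPGroup'
  refine ⟨n, ?_⟩
  rw [← (S : Subgroup H).card_mul_index, ← hDc, hn, Subgroup.card_bot, mul_one]

variable (sp : Split H)

namespace Split

theorem fst_eq_one {x : H} (hx : Odd (orderOf x)) : (sp.φ x).1 = 1 := by
  obtain ⟨k, hk⟩ := IsPGroup.iff_orderOf.1 sp.hS (sp.φ x).1
  have h := orderOf_map_dvd ((MonoidHom.fst sp.S sp.D).comp sp.φ.toMonoidHom) x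
  rw [show ((MonoidHom.fst sp.S sp.D).comp sp.φ.toMonoidHom) x = (sp.φ x).1 from rfl, hk] at h
  have h2 := hx.of_dvd_nat h
  rcases Nat.eq_zero_or_pos k with rfl | hk0
  · exact orderOf_eq_one_iff.1 (by simpa using hk)
  · exact absurd h2 (Nat.not_odd_iff_even.2 (by simp [Nat.even_pow, hk0.ne']))

theorem snd_eq_one {x : H} {k : ℕ} (hx : orderOf x ∣ 2 ^ k) : (sp.φ x).2 = 1 := by
  have h := (orderOf_map_dvd ((MonoidHom.snd sp.S sp.D).comp sp.φ.toMonoidHom) x).trans hx
  rw [show ((MonoidHom.snd sp.S sp.D).comp sp.φ.toMonoidHom) x = (sp.φ x).2 from rfl] at h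
  have hodd := sp.hD.of_dvd_nat (orderOf_dvd_natCard (sp.φ x).2)
  exact orderOf_eq_one_iff.1
    (Nat.Coprime.eq_one_of_dvd (Nat.Coprime.pow_right k (Nat.coprime_two_right.2 hodd)) h)

/-- Index of a character `σ ⊗ δ`. -/
abbrev Ix : Type u := IrrCharacter sp.S × {δ : sp.D →* ℂˣ // δ ≠ 1}

/-- The character `σ ⊗ δ`. -/
noncomputable def th (p : sp.Ix) : H → ℂ :=
  fun h => (p.1 : sp.S → ℂ) (sp.φ h).1 * (p.2.1 (sp.φ h).2 : ℂ)

/-- The degree. -/
noncomputable def deg (p : sp.Ix) : ℕ := H12.degree (p.1 : sp.S → ℂ)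

theorem th_one (p : sp.Ix) : sp.th p 1 = (sp.deg p : ℂ) := by
  simp [th, deg, H12.irr_apply_one]

theorem deg_pos (p : sp.Ix) : 1 ≤ sp.deg p := H12.irr_degree_pos p.1

theorem th_irr (p : sp.Ix) : IsIrrCharacter H (sp.th p) :=
  haveI := Fintype.ofFinite sp.S
  haveI := Fintype.ofFinite sp.D
  (H12.irrCongr sp.φ ⟨_, H13.isIrrCharacter_prod p.1.2
    (H12.isIrrCharacter_monoidHom p.2.1)⟩).2

theorem th_injective : Function.Injective sp.th := by
  intro p q h
  have h2 : ∀ y, p.2.1 y = q.2.1 y := fun y => by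
    have e1 := congrFun h (sp.φ.symm (1, y))
    simp only [th, MulEquiv.apply_symm_apply, H12.irr_apply_one] at e1
    have e2 := congrFun h 1
    rw [th_one, th_one] at e2
    rw [show (H12.degree (q.1 : sp.S → ℂ) : ℂ) = (sp.deg p : ℂ) from e2.symm] at e1
    exact Units.ext (mul_left_cancel₀ (Nat.cast_ne_zero.2 (H12.irr_degree_pos p.1).ne') e1)
  refine Prod.ext (Subtype.ext (funext fun x => ?_)) (Subtype.ext (MonoidHom.ext h2))
  have e1 := congrFun h (sp.φ.symm (x, 1))
  simpa [th] using e1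

theorem th_inner [Fintype H] [DecidableEq sp.Ix] (p q : sp.Ix) :
    classInner (sp.th p) (sp.th q) = if p = q then 1 else 0 := by
  rw [H16.irr_inner (sp.th_irr p) (sp.th_irr q)]
  by_cases h : p = q
  · rw [if_pos h, if_pos (congrArg _ h)]
  · rw [if_neg h, if_neg fun e => h (sp.th_injective e)]

local notation "N" => Subgroup.normalizer (H : Set G)

/-- The components of a conjugation. -/
theorem phi_cj (x : N) (h : H) :
    sp.φ (H13.TI.cj H x h) =
      ((sp.φ (H13.TI.cj H x (sp.φ.symm ((sp.φ h).1, 1)))).1,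
        (sp.φ (H13.TI.cj H x (sp.φ.symm (1, (sp.φ h).2)))).2) := by
  obtain ⟨⟨a, b⟩, rfl⟩ := sp.φ.symm.surjective h
  have e : sp.φ.symm (a, b) = sp.φ.symm (a, 1) * sp.φ.symm (1, b) := by
    rw [← map_mul, Prod.mk_mul_mk, mul_one, one_mul]
  have h1 : (sp.φ (H13.TI.cj H x (sp.φ.symm (a, 1)))).2 = 1 := by
    obtain ⟨k, hk⟩ := IsPGroup.iff_orderOf.1 sp.hS a
    refine sp.snd_eq_one (k := k) ((orderOf_map_dvd _ _).trans ?_)
    refine orderOf_dvd_of_pow_eq_one ?_
    rw [← map_pow, Prod.pow_mk, one_pow, ← hk, pow_orderOf_eq_one]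
    exact map_one _
  have h2 : (sp.φ (H13.TI.cj H x (sp.φ.symm (1, b)))).1 = 1 := by
    refine sp.fst_eq_one ((sp.hD.of_dvd_nat (orderOf_dvd_natCard b)).of_dvd_nat
      ((orderOf_map_dvd _ _).trans (orderOf_dvd_of_pow_eq_one ?_)))
    rw [← map_pow, Prod.pow_mk, one_pow, pow_orderOf_eq_one]
    exact map_one _
  rw [MulEquiv.apply_symm_apply]
  conv_lhs => rw [e, map_mul, map_mul]
  refine Prod.ext ?_ ?_
  · simp [h2]
  · simp [h1]

/-- Conjugation on `S`. -/
noncomputable def cS (x : N) : sp.S →* sp.S :=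
  (MonoidHom.fst sp.S sp.D).comp (sp.φ.toMonoidHom.comp ((H13.TI.cj H x).comp
    (sp.φ.symm.toMonoidHom.comp (MonoidHom.inl sp.S sp.D))))

/-- Conjugation on `D`. -/
noncomputable def cD (x : N) : sp.D →* sp.D :=
  (MonoidHom.snd sp.S sp.D).comp (sp.φ.toMonoidHom.comp ((H13.TI.cj H x).comp
    (sp.φ.symm.toMonoidHom.comp (MonoidHom.inr sp.S sp.D))))

theorem phi_cj' (x : N) (h : H) :
    sp.φ (H13.TI.cj H x h) = (sp.cS x (sp.φ h).1, sp.cD x (sp.φ h).2) := sp.phi_cj x h

theorem cj_injective (x : N) : Function.Injective (H13.TI.cj H x) := fun a b h => by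
  have := congrArg Subtype.val h
  rw [H13.TI.cj_coe, H13.TI.cj_coe] at this
  exact Subtype.ext (mul_left_cancel (mul_right_cancel this))

theorem cS_bijective (x : N) : Function.Bijective (sp.cS x) := by
  refine Finite.injective_iff_bijective.1 fun a b h => ?_
  have e : sp.φ (H13.TI.cj H x (sp.φ.symm (a, 1))) = sp.φ (H13.TI.cj H x (sp.φ.symm (b, 1))) := by
    rw [phi_cj', phi_cj', MulEquiv.apply_symm_apply, MulEquiv.apply_symm_apply, h]
  exact congrArg Prod.fst (sp.φ.symm.injective (cj_injective x (sp.φ.injective e)))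

theorem cD_bijective (x : N) : Function.Bijective (sp.cD x) := by
  refine Finite.injective_iff_bijective.1 fun a b h => ?_
  have e : sp.φ (H13.TI.cj H x (sp.φ.symm (1, a))) = sp.φ (H13.TI.cj H x (sp.φ.symm (1, b))) := by
    rw [phi_cj', phi_cj', MulEquiv.apply_symm_apply, MulEquiv.apply_symm_apply, h]
  exact congrArg Prod.snd (sp.φ.symm.injective (cj_injective x (sp.φ.injective e)))

/-- The action of the normaliser on the indices. -/
noncomputable def tw (x : N) (p : sp.Ix) : sp.Ix :=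
  (H12.irrCongr (MulEquiv.ofBijective (sp.cS x) (sp.cS_bijective x)) p.1,
    ⟨p.2.1.comp (sp.cD x), fun h => p.2.2 (MonoidHom.ext fun y => by
      obtain ⟨z, rfl⟩ := (sp.cD_bijective x).2 y
      exact DFunLike.congr_fun h z)⟩)

theorem th_tw (x : N) (p : sp.Ix) (h : H) :
    sp.th (sp.tw x p) h = sp.th p (H13.TI.cj H x h) := by
  show ((sp.tw x p).1 : sp.S → ℂ) _ * ((sp.tw x p).2.1 _ : ℂ) = _
  rw [th, phi_cj', tw, H12.irrCongr_apply]
  rfl

theorem deg_tw (x : N) (p : sp.Ix) : sp.deg (sp.tw x p) = sp.deg p := by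
  have h := sp.th_tw x p 1
  rw [map_one, th_one, th_one] at h
  exact_mod_cast h

theorem tw_mul (x y : N) (p : sp.Ix) : sp.tw (x * y) p = sp.tw y (sp.tw x p) := by
  refine sp.th_injective (funext fun h => ?_)
  rw [th_tw, th_tw, th_tw]
  congr 1
  exact Subtype.ext (by simp [H13.TI.cj_coe, mul_assoc])

theorem tw_one (p : sp.Ix) : sp.tw 1 p = p := by
  refine sp.th_injective (funext fun h => ?_)
  rw [th_tw]
  congr 1
  exact Subtype.ext (by simp [H13.TI.cj_coe])

theorem tw_of_mem (x : N) (hx : (x : G) ∈ H) (p : sp.Ix) : sp.tw x p = p := by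
  refine sp.th_injective (funext fun h => ?_)
  rw [th_tw]
  have e : H13.TI.cj H x h = (⟨x, hx⟩ : H) * h * (⟨x, hx⟩ : H)⁻¹ :=
    Subtype.ext (by simp [H13.TI.cj_coe])
  rw [e]
  exact H16.char_of_irr (sp.th_irr p) |> H12.IsCharacter.isClassFunction |>
    fun hc => H12.IsClassFunction.of_isConj hc (isConj_iff.2 ⟨(⟨x, hx⟩ : H)⁻¹, by group⟩)

theorem tw_eq_self (hs : Setting H) (x : N) (p : sp.Ix) : sp.tw x p = p ↔ (x : G) ∈ H := by
  refine ⟨fun h => ?_, fun hx => sp.tw_of_mem x hx p⟩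
  let L : H →* ℂˣ := p.2.1.comp ((MonoidHom.snd sp.S sp.D).comp sp.φ.toMonoidHom)
  refine H13.TI.free hs.hyp x (θ := L) (fun h0 => p.2.2 (MonoidHom.ext fun y => ?_)) ?_
  · have := DFunLike.congr_fun h0 (sp.φ.symm (1, y))
    simpa [L] using this
  · refine MonoidHom.ext fun k => ?_
    have := congrArg (fun q : sp.Ix => q.2.1 (sp.φ k).2) h
    rw [H13.TI.tw_apply]
    show p.2.1 (sp.φ (H13.TI.cj H x k)).2 = p.2.1 (sp.φ k).2
    rw [phi_cj']
    exact this

/-- Orbit relation. -/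
def setoid : Setoid sp.Ix where
  r p q := ∃ x : N, sp.tw x p = q
  iseqv := ⟨fun p => ⟨1, sp.tw_one p⟩, fun {p q} h => by
      obtain ⟨x, rfl⟩ := h
      exact ⟨x⁻¹, by rw [← tw_mul, mul_inv_cancel, tw_one]⟩,
    fun {p q r} h h' => by
      obtain ⟨x, rfl⟩ := h
      obtain ⟨y, rfl⟩ := h'
      exact ⟨x * y, sp.tw_mul x y p⟩⟩

/-- The orbits. -/
abbrev Orb : Type u := Quotient sp.setoid

theorem card_tw_eq (hs : Setting H) (p : sp.Ix) (x₀ : N) :
    Nat.card {x : N // sp.tw x p = sp.tw x₀ p} = Nat.card H := by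
  refine (Nat.card_congr (Equiv.ofBijective
    (fun k : H => (⟨(⟨k, Subgroup.le_normalizer k.2⟩ : N) * x₀, by
      rw [tw_mul, sp.tw_of_mem ⟨(k : G), Subgroup.le_normalizer k.2⟩ k.2]⟩ :
      {x : N // sp.tw x p = sp.tw x₀ p})) ⟨?_, ?_⟩)).symm
  · intro a b hab
    have e := congrArg (fun z : {x : N // sp.tw x p = sp.tw x₀ p} => ((z.1 : N) : G)) hab
    exact Subtype.ext (mul_right_cancel (b := (x₀ : G)) e)
  · rintro ⟨x, hx⟩
    have h2 : sp.tw (x * x₀⁻¹) p = p := by
      rw [tw_mul, hx, ← tw_mul, mul_inv_cancel, tw_one]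
    exact ⟨⟨_, (sp.tw_eq_self hs _ p).1 h2⟩, Subtype.ext (Subtype.ext (by simp))⟩

theorem card_orbit (hs : Setting H) (p : sp.Ix) :
    Nat.card {q : sp.Ix // ∃ x : N, sp.tw x p = q} = H.relIndex N := by
  classical
  haveI := Fintype.ofFinite {q : sp.Ix // ∃ x : N, sp.tw x p = q}
  haveI := Fintype.ofFinite (N : Subgroup G)
  have h1 : Nat.card (N : Subgroup G) =
      Nat.card {q : sp.Ix // ∃ x : N, sp.tw x p = q} * Nat.card H := by
    rw [← Nat.card_congr (Equiv.sigmaFiberEquiv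
      (fun x : N => (⟨sp.tw x p, ⟨x, rfl⟩⟩ : {q : sp.Ix // ∃ x : N, sp.tw x p = q}))),
      Nat.card_sigma, Finset.sum_congr rfl (fun q _ => ?_), Finset.sum_const, Finset.card_univ,
      smul_eq_mul, Nat.card_eq_fintype_card (α := {q : sp.Ix // ∃ x : N, sp.tw x p = q})]
    obtain ⟨x₀, hx₀⟩ := q.2
    rw [← sp.card_tw_eq hs p x₀]
    exact Nat.card_congr (Equiv.subtypeEquivRight fun x => by rw [Subtype.ext_iff, hx₀])
  have h2 : Nat.card (N : Subgroup G) = H.relIndex N * Nat.card H := by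
    rw [← (H.subgroupOf N).card_mul_index, mul_comm,
      Nat.card_congr (Subgroup.subgroupOfEquivOfLe Subgroup.le_normalizer).toEquiv]
    rfl
  exact Nat.eq_of_mul_eq_mul_right Nat.card_pos (h1.symm.trans h2)

end Split

end H22.CN
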