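import Cfsg.Agent.H22.CN.ToCIT
import Cfsg.Agent.H11.CIT.Interface
import Cfsg.Agent.H57.SzForm
import Cfsg.Agent.H57.SzStab
import Cfsg.Prelude.Def_Exceptional

/-!
The classification of simple CN-groups from the classification of simple CIT-groups.
-/

set_option autoImplicit false

namespace H22.CN

universe u

/-- A group isomorphic to a Suzuki group is a simple group of Suzuki order, once simple. -/
theorem isSuzuki_of_iso {G : Type u} [Group G] [Finite G] [IsSimpleGroup G]
    (hS : Cfsg.Lie.IsoSuzuki G) : Cfsg.IsSuzuki G := by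
  obtain ⟨F, _, _, m, hm, hF, ⟨e⟩⟩ := hS
  refine ⟨inferInstance, m, hm, ?_⟩
  rw [Nat.card_congr (e.trans (H57.lieSzEquiv hm hF).symm).toEquiv, H57.card_sz hm hF]

/-- A non-abelian simple group is not solvable. -/
theorem not_solvable_of_simple {G : Type u} [Group G] [IsSimpleGroup G]
    (hG : ∃ a b : G, a * b ≠ b * a) : ¬ Group.IsSolvable G := by
  intro h
  obtain ⟨a, b, hab⟩ := hG
  exact hab (IsSimpleGroup.comm_iff_isSolvable.2 h a b)

/-- A non-solvable CN-group which is simple is on the list of simple CIT-groups. -/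
theorem simple_cn_list (hC : H11.CIT.CITClass.{u}) {G : Type u} [Group G] [Finite G]
    [IsSimpleGroup G] (hG : ∃ a b : G, a * b ≠ b * a) (hCN : Cfsg.IsCNGroup G) :
    (∃ (F : Type) (_ : Field F) (_ : Fintype F),
        (Fintype.card F = 9 ∨ (∃ n : ℕ, Fintype.card F = 2 ^ n) ∨
          ((Fintype.card F).Prime ∧ ∃ k : ℕ, Fintype.card F = 2 ^ k + 1 ∨ Fintype.card F + 1 = 2 ^ k)) ∧
        Nonempty (G ≃* Matrix.ProjectiveSpecialLinearGroup (Fin 2) F)) ∨
    (∃ (F : Type) (_ : Field F) (_ : Fintype F), Fintype.card F = 4 ∧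
        Nonempty (G ≃* Matrix.ProjectiveSpecialLinearGroup (Fin 3) F)) ∨
    Cfsg.IsSuzuki G := by
  have hns := not_solvable_of_simple hG
  have hab : ¬ IsMulCommutative G := fun h => by
    obtain ⟨a, b, hne⟩ := hG
    exact hne (h.is_comm.comm a b)
  rcases hC G hab (isCIT_of_cn hCN hns) with h | h | h
  · exact Or.inl h
  · exact Or.inr (Or.inl h)
  · exact Or.inr (Or.inr (isSuzuki_of_iso h))

end H22.CN
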