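import Mathlib
import Cfsg.Agent.H16.VChar
import Cfsg.Agent.S0198

/-!
Feit's linking criterion in abstract form: an isometric family of differences `a j v i - a i v j`
with `a` increasing slowly enough comes from irreducible characters.
-/

set_option autoImplicit false
set_option linter.unusedSectionVars false

open Cfsg
open scoped ComplexConjugate

namespace H22.CN

universe u

variable {G : Type u} [Group G] [Fintype G] {Q : Type*} [Fintype Q] [DecidableEq Q]

/-- Isometric data of degree `a`. -/
structure LinkData (v : Q → G → ℂ) (a : Q → ℕ) : Prop where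
  gen : ∀ i, IsGeneralizedCharacter G (v i)
  one : ∀ i j, (a j : ℂ) * v i 1 = (a i : ℂ) * v j 1
  inner : ∀ i j k l, classInner ((a j : ℤ) • v i - (a i : ℤ) • v j)
      ((a l : ℤ) • v k - (a k : ℤ) • v l) =
    (if i = k then (a j : ℂ) * a l else 0) - (if i = l then (a j : ℂ) * a k else 0)
      - ((if j = k then (a i : ℂ) * a l else 0) - (if j = l then (a i : ℂ) * a k else 0))

/-- The linear members: pairwise differences are differences of irreducible characters. -/
theorem exists_linear {v : Q → G → ℂ} {a : Q → ℕ} (hd : LinkData v a) {o : Q} (ho : a o = 1) :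
    ∃ ε : ℤ, (ε = 1 ∨ ε = -1) ∧ ∃ μ : {i : Q // a i = 1} → G → ℂ,
      (∀ i, IsIrrCharacter G (μ i)) ∧ Function.Injective μ ∧
      ∀ i : {i : Q // a i = 1}, v i - v o = ε • (μ i - μ ⟨o, ho⟩) := by
  classical
  let T := {i : Q // a i = 1}
  let n := Fintype.card T
  let eq : T ≃ Fin n := Fintype.equivFin T
  let i₀ : Fin n := eq ⟨o, ho⟩
  let τ : Fin n → G → ℂ := fun k => v (eq.symm k).1 - v o
  have h0 : τ i₀ = 0 := by simp [τ, i₀]
  have e : ∀ k : Fin n, τ k = (a o : ℤ) • v (eq.symm k).1 - (a (eq.symm k).1 : ℤ) • v o := by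
    intro k
    simp only [τ, ho, (eq.symm k).2, Nat.cast_one, one_smul]
  have hne : ∀ k : Fin n, k ≠ i₀ → (eq.symm k).1 ≠ o := fun k hk h => hk (by
    have : eq.symm k = ⟨o, ho⟩ := Subtype.ext h
    simp [i₀, ← this])
  have hgram : ∀ i j, i ≠ i₀ → j ≠ i₀ → classInner (τ i) (τ j) = if i = j then 2 else 1 := by
    intro i j hi hj
    rw [e i, e j, hd.inner]
    simp only [ho, (eq.symm i).2, (eq.symm j).2, Nat.cast_one, mul_one]
    rw [if_neg (hne i hi), if_neg (hne j hj).symm, if_pos trivial]
    by_cases hij : i = j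
    · subst hij
      rw [if_pos rfl, if_pos rfl]
      norm_num
    · rw [if_neg hij, if_neg (fun h => hij (eq.symm.injective (Subtype.ext h)))]
      norm_num
  obtain ⟨ε, hε, μ, hμ, hinj, hτ⟩ := Cfsg.Agent.S0198.result n i₀ τ h0
    (fun k => H16.gen_sub (hd.gen _) (hd.gen _))
    (fun k => by
      have := hd.one (eq.symm k).1 o
      rw [ho, (eq.symm k).2] at this
      simpa [τ, sub_eq_zero] using this)
    hgram
  obtain ⟨z, hz, hz1⟩ : ∃ z : ℤ, ε = (z : ℂ) ∧ (z = 1 ∨ z = -1) := by
    rcases hε with rfl | rfl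
    · exact ⟨1, by simp, Or.inl rfl⟩
    · exact ⟨-1, by simp, Or.inr rfl⟩
  refine ⟨z, hz1, fun i => μ (eq i), fun i => hμ _, hinj.comp eq.injective, fun i => ?_⟩
  have := hτ (eq i)
  simp only [τ, Equiv.symm_apply_apply] at this
  rw [this, hz, Int.cast_smul_eq_zsmul]

/-- Arithmetic of Feit's criterion. -/
theorem link_zero {a W x : ℤ} {R : ℝ} (hR : 0 ≤ R) (ha : 2 ≤ a) (hW : 2 * a ^ 2 ≤ W)
    (h : ((W * x ^ 2 + 2 * a * x : ℤ) : ℝ) + R = 1) : x = 0 := by
  by_contra hx
  have h1 : (W * x ^ 2 + 2 * a * x : ℤ) ≤ 1 := by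
    have : ((W * x ^ 2 + 2 * a * x : ℤ) : ℝ) ≤ 1 := by linarith
    exact_mod_cast this
  have h2 : 1 ≤ x ^ 2 := by
    rcases lt_or_gt_of_ne hx with h' | h' <;> nlinarith
  have h3 : 0 ≤ x ^ 2 + x := by
    rcases lt_or_gt_of_ne hx with h' | h'
    · nlinarith [mul_nonneg (show (0 : ℤ) ≤ -x by omega) (show (0 : ℤ) ≤ -x - 1 by omega)]
    · nlinarith
  nlinarith [mul_nonneg (show (0 : ℤ) ≤ 2 * a by omega) h3,
    mul_le_mul_of_nonneg_right hW (show (0 : ℤ) ≤ x ^ 2 by positivity),
    mul_le_mul_of_nonneg_left h2 (show (0 : ℤ) ≤ 2 * a ^ 2 - 2 * a by nlinarith)]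

/-- The sum of squares of degrees below `a i`. -/
def below (a : Q → ℕ) (i : Q) : ℕ := ∑ j ∈ Finset.univ.filter (fun j => a j < a i), a j ^ 2

theorem exists_linked {v : Q → G → ℂ} {a : Q → ℕ} (hd : LinkData v a) (hpos : ∀ i, 1 ≤ a i)
    {o : Q} (ho : a o = 1)
    (hw : ∀ i, 1 < a i → 2 * a i ^ 2 ≤ below a i) :
    ∃ ε : ℤ, (ε = 1 ∨ ε = -1) ∧ ∃ μ : Q → G → ℂ, (∀ i, IsIrrCharacter G (μ i)) ∧
      Function.Injective μ ∧ ∀ i, v i - (a i : ℤ) • v o = ε • (μ i - (a i : ℤ) • μ o) := by
  classical
  obtain ⟨ε, hε, μ₁, hμ₁, hinj₁, h₁⟩ := exists_linear hd ho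
  set π := μ₁ ⟨o, ho⟩ with hπ
  have hπi : IsIrrCharacter G π := hμ₁ _
  have hεε : (ε : ℂ) * ε = 1 := by rcases hε with rfl | rfl <;> norm_num
  have hεε' : ε * ε = 1 := by rcases hε with rfl | rfl <;> norm_num
  set β : Q → G → ℂ := fun i => v i - (a i : ℤ) • v o with hβ
  have hβgen : ∀ i, IsGeneralizedCharacter G (β i) := fun i =>
    H16.gen_sub (hd.gen i) (H16.gen_zsmul _ (hd.gen o))
  have hinner : ∀ i j, classInner (β i) (β j) =
      (if i = j then (1 : ℂ) else 0) - (if i = o then (a j : ℂ) else 0)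
        - ((if o = j then (a i : ℂ) else 0) - (a i : ℂ) * a j) := by
    intro i j
    have := hd.inner i o j o
    simpa [hβ, ho] using this
  -- main induction on the degree
  have main : ∀ n : ℕ, ∀ i, a i = n → i ≠ o → ∃ ν : G → ℂ, IsIrrCharacter G ν ∧ ν ≠ π ∧
      β i = ε • (ν - (a i : ℤ) • π) := by
    intro n
    induction n using Nat.strong_induction_on with
    | _ n ih =>
      intro i hin hio
      subst hin
      rcases eq_or_lt_of_le (hpos i) with ha1 | ha1
      · refine ⟨μ₁ ⟨i, ha1.symm⟩, hμ₁ _, fun h => hio (congrArg Subtype.val (hinj₁ h)), ?_⟩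
        simp only [hβ, ← ha1, Nat.cast_one, one_smul]
        exact h₁ ⟨i, ha1.symm⟩
      set S := (Finset.univ : Finset Q).filter (fun j => a j < a i) with hS
      have hoS : o ∈ S := by simp [hS, ho, ha1]
      have hex : ∀ j, ∃ ν : G → ℂ, (j = o → ν = π) ∧ (j ∈ S → IsIrrCharacter G ν ∧
          (j ≠ o → ν ≠ π) ∧ β j = ε • (ν - (a j : ℤ) • π)) := by
        intro j
        by_cases hjo : j = o
        · subst hjo
          refine ⟨π, fun _ => rfl, fun _ => ⟨hπi, fun h => absurd rfl h, ?_⟩⟩
          simp [hβ, ho]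
        · by_cases hj : j ∈ S
          · obtain ⟨ν, h1, h2, h3⟩ := ih (a j) (Finset.mem_filter.1 hj).2 j rfl hjo
            exact ⟨ν, fun h => absurd h hjo, fun _ => ⟨h1, fun _ => h2, h3⟩⟩
          · exact ⟨π, fun _ => rfl, fun h => absurd h hj⟩
      choose ν hνo hν using hex
      have hνinj : ∀ j ∈ S, ∀ k ∈ S, j ≠ k → ν j ≠ ν k := by
        intro j hj k hk hjk h
        obtain ⟨hj1, hj2, hj3⟩ := hν j hj
        obtain ⟨hk1, hk2, hk3⟩ := hν k hk
        have hjo : j ≠ o := by
          rintro rfl
          exact hk2 hjk.symm (h ▸ hνo j rfl)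
        have hko : k ≠ o := by
          rintro rfl
          exact hj2 hjk (h.trans (hνo k rfl))
        have e1 := hinner j k
        rw [if_neg hjk, if_neg hjo, if_neg hko.symm, hj3, hk3, h] at e1
        rw [H16.ci_zsmul_left, H16.ci_zsmul_right, H16.ci_sub_left, H16.ci_sub_right,
          H16.ci_sub_right, H16.ci_zsmul_left, H16.ci_zsmul_left, H16.ci_zsmul_right,
          H16.ci_zsmul_right, H16.ci_irr_self hk1, H16.ci_irr_self hπi,
          H16.ci_irr_ne hk1 hπi (hk2 hko), H16.ci_irr_ne hπi hk1 (hk2 hko).symm,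
          ← mul_assoc, hεε] at e1
        push_cast at e1
        have : (1 : ℂ) = 0 := by linear_combination e1
        exact one_ne_zero this
      -- coefficients of `β i` at the members below
      have hco : ∀ j ∈ S, ∃ z : ℤ, classInner (β i) (ν j) = (z : ℂ) := fun j hj =>
        H16.gen_inner_int (hβgen i) (H16.gen_of_irr (hν j hj).1)
      choose! z hz using hco
      set x : ℤ := ε * z o + a i with hx
      have hzj : ∀ j ∈ S, (ε * z j : ℤ) = x * a j - if j = o then (a i : ℤ) else 0 := by
        intro j hj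
        by_cases hjo : j = o
        · subst hjo
          rw [if_pos rfl, hx, ho]
          push_cast
          ring
        rw [if_neg hjo]
        have hij : i ≠ j := fun h => lt_irrefl _ (h ▸ (Finset.mem_filter.1 hj).2)
        have e1 := hinner i j
        rw [if_neg hij, if_neg hio, if_neg (Ne.symm hjo), (hν j hj).2.2, H16.ci_zsmul_right,
          H16.ci_sub_right, H16.ci_zsmul_right, hz j hj] at e1
        have e2 : classInner (β i) π = (z o : ℂ) := by rw [← hz o hoS, hνo o rfl]
        rw [e2] at e1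
        have : ((ε * z j : ℤ) : ℂ) = ((x * a j - 0 : ℤ) : ℂ) := by
          rw [hx]
          push_cast
          linear_combination e1
        exact_mod_cast this
      set R : G → ℂ := β i - ∑ j ∈ S, z j • ν j with hR
      have hRgen : IsGeneralizedCharacter G R :=
        H16.gen_sub (hβgen i) (H16.gen_sum _ _ fun j hj => H16.gen_zsmul _ (H16.gen_of_irr (hν j hj).1))
      have hRo : ∀ j ∈ S, classInner R (ν j) = 0 := by
        intro j hj
        rw [hR, H16.ci_sub_left, H16.ci_sum_left, Finset.sum_eq_single j, H16.ci_zsmul_left,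
          H16.ci_irr_self (hν j hj).1, mul_one, hz j hj, sub_self]
        · intro k hk hkj
          rw [H16.ci_zsmul_left, H16.ci_irr_ne (hν k hk).1 (hν j hj).1 (hνinj k hk j hj hkj),
            mul_zero]
        · exact fun h => absurd hj h
      have hRR : classInner (β i) (β i) = classInner R R + ((∑ j ∈ S, z j ^ 2 : ℤ) : ℂ) := by
        have e1 : classInner R (∑ j ∈ S, z j • ν j) = 0 := by
          rw [H16.ci_sum_right]
          exact Finset.sum_eq_zero fun j hj => by rw [H16.ci_zsmul_right, hRo j hj, mul_zero]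
        have e2 : classInner (β i) (∑ j ∈ S, z j • ν j) = ((∑ j ∈ S, z j ^ 2 : ℤ) : ℂ) := by
          rw [H16.ci_sum_right]
          push_cast
          exact Finset.sum_congr rfl fun j hj => by rw [H16.ci_zsmul_right, hz j hj, sq]
        have e3 : classInner R (β i) = classInner R R := by
          conv_lhs => rw [show β i = R + ∑ j ∈ S, z j • ν j by rw [hR, sub_add_cancel]]
          rw [H16.ci_add_right, e1, add_zero]
        have e4 : classInner (∑ j ∈ S, z j • ν j) (β i) = ((∑ j ∈ S, z j ^ 2 : ℤ) : ℂ) := by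
          rw [H16.ci_symm, e2, map_intCast]
        calc classInner (β i) (β i)
            = classInner (R + ∑ j ∈ S, z j • ν j) (β i) := by rw [hR, sub_add_cancel]
          _ = _ := by rw [H16.ci_add_left, e3, e4]
      have hnorm : classInner (β i) (β i) = ((1 + (a i : ℤ) ^ 2 : ℤ) : ℂ) := by
        rw [hinner, if_pos rfl, if_neg hio, if_neg (Ne.symm hio)]
        push_cast
        ring
      have hsum : ∑ j ∈ S, z j ^ 2
          = x ^ 2 * below a i - 2 * x * a i + (a i : ℤ) ^ 2 := by
        have e1 : ∀ j ∈ S, z j ^ 2 = x ^ 2 * (a j : ℤ) ^ 2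
            + if j = o then -2 * x * a i + (a i : ℤ) ^ 2 else 0 := by
          intro j hj
          have e2 := congrArg (fun y => y ^ 2) (hzj j hj)
          simp only [mul_pow, sq ε, hεε', one_mul] at e2
          rw [e2]
          split_ifs with h
          · subst h; rw [ho]; push_cast; ring
          · ring
        rw [Finset.sum_congr rfl e1, Finset.sum_add_distrib, ← Finset.mul_sum, below]
        rw [Finset.sum_ite_eq' S o, if_pos hoS]
        push_cast
        ring
      have hkey : (((below a i : ℤ) * (-x) ^ 2 + 2 * (a i : ℤ) * (-x) : ℤ) : ℝ)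
          + (classInner R R).re = 1 := by
        have e1 := congrArg Complex.re (hnorm.symm.trans hRR)
        rw [hsum, Complex.add_re, Complex.intCast_re, Complex.intCast_re] at e1
        push_cast at e1 ⊢
        linarith
      have hx0 : x = 0 := neg_eq_zero.1 (link_zero (H16.ci_self_re_nonneg R)
        (by exact_mod_cast ha1) (by exact_mod_cast hw i ha1) hkey)
      have hsumz : ∑ j ∈ S, z j • ν j = (-(ε * (a i : ℤ))) • π := by
        rw [Finset.sum_eq_single o]
        · have := hzj o hoS
          rw [hx0, if_pos rfl, zero_mul, zero_sub] at this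
          have hzo : z o = -(ε * (a i : ℤ)) := by
            calc z o = ε * ε * z o := by rw [hεε', one_mul]
              _ = ε * (ε * z o) := by ring
              _ = _ := by rw [this]; ring
          rw [hνo o rfl, hzo]
        · intro j hj hjo
          have := hzj j hj
          rw [hx0, if_neg hjo, zero_mul, zero_sub, neg_zero] at this
          rcases mul_eq_zero.1 this with h | h
          · rcases hε with rfl | rfl <;> norm_num at h
          · rw [h, zero_smul]
        · exact fun h => absurd hoS h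
      have hR1 : classInner R R = 1 := by
        have e1 := hnorm.symm.trans hRR
        rw [hsum, hx0] at e1
        push_cast at e1
        linear_combination -e1
      have hRone : R 1 = (ε : ℂ) * ((a i : ℂ) * π 1) := by
        have h0 : β i 1 = 0 := by
          have := hd.one i o
          rw [ho] at this
          simpa [hβ, sub_eq_zero] using this
        rw [hR, Pi.sub_apply, h0, hsumz]
        simp
        ring
      obtain ⟨d, hd0, hdπ⟩ := H16.irr_one hπi
      have hRirr : IsIrrCharacter G (ε • R) := by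
        have hgen := H16.gen_zsmul ε hRgen
        rcases H16.norm_one hgen (by
          rw [H16.ci_zsmul_left, H16.ci_zsmul_right, hR1, mul_one, hεε]) with h | h
        · exact h
        · exfalso
          obtain ⟨c, hc0, hc⟩ := H16.irr_one h
          rw [Pi.neg_apply, Pi.smul_apply, zsmul_eq_mul, hRone, ← mul_assoc, hεε, one_mul, hdπ]
            at hc
          have : ((c + a i * d : ℕ) : ℂ) = 0 := by push_cast; linear_combination -hc
          have := Nat.cast_eq_zero.1 this
          omega
      refine ⟨ε • R, hRirr, fun h => ?_, ?_⟩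
      · have e1 := hRo o hoS
        rw [hνo o rfl] at e1
        have e2 : classInner (ε • R) π = 0 := by rw [H16.ci_zsmul_left, e1, mul_zero]
        rw [h, H16.ci_irr_self hπi] at e2
        exact one_ne_zero e2
      · have eb : β i = R + ∑ j ∈ S, z j • ν j := by rw [hR, sub_add_cancel]
        rw [eb, hsumz, smul_sub, smul_smul, hεε', one_smul, smul_smul, neg_smul, ← sub_eq_add_neg]
  let μ : Q → G → ℂ := fun i => if h : i = o then π else (main (a i) i rfl h).choose
  have hμ : ∀ i, IsIrrCharacter G (μ i) ∧ (i ≠ o → μ i ≠ π) ∧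
      β i = ε • (μ i - (a i : ℤ) • π) := by
    intro i
    by_cases h : i = o
    · subst h
      simp [μ, hβ, ho, hπi]
    · simp only [μ, dif_neg h]
      exact ⟨(main (a i) i rfl h).choose_spec.1, fun _ => (main (a i) i rfl h).choose_spec.2.1,
        (main (a i) i rfl h).choose_spec.2.2⟩
  have hμo : μ o = π := by simp [μ]
  refine ⟨ε, hε, μ, fun i => (hμ i).1, fun j k h => ?_, fun i => ?_⟩
  · by_contra hjk
    by_cases hjo : j = o
    · subst hjo
      exact (hμ k).2.1 (Ne.symm hjk) (h ▸ hμo)
    by_cases hko : k = o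
    · subst hko
      exact (hμ j).2.1 hjk (h.trans hμo)
    have e1 := hinner j k
    rw [if_neg hjk, if_neg hjo, if_neg (Ne.symm hko), (hμ j).2.2, (hμ k).2.2, h] at e1
    rw [H16.ci_zsmul_left, H16.ci_zsmul_right, H16.ci_sub_left, H16.ci_sub_right,
      H16.ci_sub_right, H16.ci_zsmul_left, H16.ci_zsmul_left, H16.ci_zsmul_right,
      H16.ci_zsmul_right, H16.ci_irr_self (hμ k).1, H16.ci_irr_self hπi,
      H16.ci_irr_ne (hμ k).1 hπi ((hμ k).2.1 hko),
      H16.ci_irr_ne hπi (hμ k).1 ((hμ k).2.1 hko).symm, ← mul_assoc, hεε] at e1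
    push_cast at e1
    have : (1 : ℂ) = 0 := by linear_combination e1
    exact one_ne_zero this
  · rw [hμo]
    exact (hμ i).2.2

end H22.CN
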