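import Mathlib
import Cfsg.Agent.H22.CN.Chars
import Cfsg.Agent.H22.CN.Linking
import Cfsg.Agent.H12.Products

/-!
The induced class functions of the characters `σ ⊗ δ`: isometry, values at involutions, and the
sums over all indices.
-/

set_option autoImplicit false
set_option linter.unusedSectionVars false
set_option linter.style.haveILetI false

open Cfsg
open scoped ComplexConjugate

namespace H22.CN

universe u

variable {G : Type u} [Group G] [Fintype G] {H : Subgroup G} [Fintype H]
  [Fintype (Subgroup.normalizer (H : Set G) : Subgroup G)]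

local notation "N" => Subgroup.normalizer (H : Set G)

theorem indFun_eq_sum (hH : H13.TI.Hyp H) (θ : H → ℂ) (h : H) (h1 : h ≠ 1) :
    indFun H θ (h : G) = (Nat.card H : ℂ)⁻¹ * ∑ x : N, θ (H13.TI.cj H x h) := by
  classical
  have h1' : (h : G) ≠ 1 := fun e => h1 (Subtype.ext e)
  simp only [H12.indFun_apply]
  congr 1
  rw [← Fintype.sum_equiv (Equiv.inv G) _ _ (fun x => rfl)]
  simp only [Equiv.inv_apply, inv_inv]
  rw [← Finset.sum_subset (s₁ := (Finset.univ.filter fun x : G => x ∈ (N : Subgroup G))) (Finset.subset_univ _)]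
  · refine (Finset.sum_subtype _ (fun x => by simp) _).trans (Finset.sum_congr rfl fun x _ => ?_)
    rw [H12.extendByZero_mk H θ (H13.TI.conj_mem H x.2 h.2)]
    rfl
  · intro x _ hx
    apply H12.extendByZero_of_notMem
    intro hm
    exact hx (by simpa using hH.ti x h h.2 h1' hm)

theorem indFun_eq_zero (θ : H → ℂ) {g : G} (hg : ∀ x : G, x * g * x⁻¹ ∉ H) : indFun H θ g = 0 := by
  classical
  rw [H12.indFun_apply, Finset.sum_eq_zero, mul_zero]
  intro x _
  apply H12.extendByZero_of_notMem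
  intro hm
  exact hg x⁻¹ (by simpa [mul_assoc] using hm)

theorem indFun_pair (hH : H13.TI.Hyp H) (f g : H → ℂ) (hf : f 1 = 0) :
    classInner (indFun H f) (indFun H g) =
      (Nat.card H : ℂ)⁻¹ * ∑ x : N, classInner f (fun h => g (H13.TI.cj H x h)) := by
  classical
  rw [H12.classInner_indFun H f (H12.indFun_isClassFunction H g)]
  have e : ∀ h : H, f h * conj (indFun H g (h : G)) =
      f h * conj ((Nat.card H : ℂ)⁻¹ * ∑ x : N, g (H13.TI.cj H x h)) := by
    intro h
    by_cases h1 : h = 1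
    · subst h1
      rw [hf, zero_mul, zero_mul]
    · rw [indFun_eq_sum hH g h h1]
  simp only [H12.classInner_def]
  rw [Finset.sum_congr rfl fun h _ => e h]
  simp only [map_mul, map_inv₀, Complex.conj_natCast, map_sum, Finset.mul_sum]
  rw [Finset.sum_comm]
  exact Finset.sum_congr rfl fun x _ => Finset.sum_congr rfl fun h _ => by ring

/-- The involutions of `H`. -/
noncomputable def inv2 (H : Subgroup G) [Fintype H] : Finset H :=
  Finset.univ.filter fun z => orderOf z = 2

theorem mem_inv2 {z : H} : z ∈ inv2 H ↔ orderOf z = 2 := by simp [inv2]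

theorem card_normalizer_eq :
    Nat.card (N : Subgroup G) = H.relIndex N * Nat.card H := by
  rw [← (H.subgroupOf N).card_mul_index, mul_comm,
    Nat.card_congr (Subgroup.subgroupOfEquivOfLe Subgroup.le_normalizer).toEquiv]
  rfl

theorem cj_orderOf (x : N) (h : H) : orderOf (H13.TI.cj H x h) = orderOf h := by
  rw [← Subgroup.orderOf_coe (H13.TI.cj H x h), H13.TI.cj_coe, orderOf_conj_eq,
    Subgroup.orderOf_coe]

theorem cj_fibre (hs : Setting H) (t : H) (ht : orderOf t = 2) (z : H) (hz : orderOf z = 2) :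
    Nat.card {x : N // H13.TI.cj H x t = z} = Nat.card H := by
  have ht' : orderOf (t : G) = 2 := by rwa [Subgroup.orderOf_coe]
  have hz' : orderOf (z : G) = 2 := by rwa [Subgroup.orderOf_coe]
  obtain ⟨y, hy, hyz⟩ := hs.conj_invol ht' t.2 hz' z.2
  refine (Nat.card_congr (Equiv.ofBijective
    (fun k : H => (⟨(⟨y, hy⟩ : N) * ⟨k, Subgroup.le_normalizer k.2⟩, Subtype.ext (by
      rw [H13.TI.cj_coe, hyz]
      have := hs.invol_central ht' t.2 k k.2
      calc y * (k : G) * (t : G) * (y * k)⁻¹ = y * ((k : G) * t) * ((k : G))⁻¹ * y⁻¹ := by group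
        _ = y * ((t : G) * k) * ((k : G))⁻¹ * y⁻¹ := by rw [this]
        _ = y * t * y⁻¹ := by group)⟩ : {x : N // H13.TI.cj H x t = z})) ⟨?_, ?_⟩)).symm
  · intro a b hab
    have e := congrArg (fun w : {x : N // H13.TI.cj H x t = z} => ((w.1 : N) : G)) hab
    exact Subtype.ext (mul_left_cancel (a := y) e)
  · rintro ⟨x, hx⟩
    have hx' : (x : G) * t * (x : G)⁻¹ = y * t * y⁻¹ := by
      rw [← H13.TI.cj_coe, hx, hyz]
    have hk : y⁻¹ * (x : G) ∈ H := hs.cent_mem t.2 (ne_one_of_two ht') (by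
      calc y⁻¹ * (x : G) * (t : G) = y⁻¹ * ((x : G) * t * (x : G)⁻¹) * x := by group
        _ = y⁻¹ * (y * t * y⁻¹) * x := by rw [hx']
        _ = t * (y⁻¹ * x) := by group)
    exact ⟨⟨_, hk⟩, Subtype.ext (Subtype.ext (by simp))⟩

theorem sum_cj (hs : Setting H) (t : H) (ht : orderOf t = 2) (f : H → ℂ) :
    ∑ x : N, f (H13.TI.cj H x t) = (Nat.card H : ℂ) * ∑ z ∈ inv2 H, f z := by
  classical
  rw [← Finset.sum_fiberwise_of_maps_to (s := Finset.univ) (t := inv2 H)
    (g := fun x : N => H13.TI.cj H x t) (fun x _ => mem_inv2.2 ((cj_orderOf x t).trans ht)),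
    Finset.mul_sum]
  refine Finset.sum_congr rfl fun z hz => ?_
  rw [Finset.sum_congr rfl (fun x hx => by rw [(Finset.mem_filter.1 hx).2]), Finset.sum_const,
    nsmul_eq_mul]
  congr 1
  rw [← cj_fibre hs t ht z (mem_inv2.1 hz), Nat.card_eq_fintype_card, Fintype.card_subtype]

theorem card_inv2 (hs : Setting H) : (inv2 H).card = H.relIndex N := by
  obtain ⟨t, ht, htH⟩ := hs.exists_invol
  have h := sum_cj hs ⟨t, htH⟩ (by rwa [← Subgroup.orderOf_coe]) (fun _ => (1 : ℂ))
  rw [Finset.sum_const, Finset.sum_const, Finset.card_univ, ← Nat.card_eq_fintype_card,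
    card_normalizer_eq, nsmul_eq_mul, nsmul_eq_mul, mul_one, mul_one, Nat.cast_mul, mul_comm] at h
  exact_mod_cast (mul_left_cancel₀ (Nat.cast_ne_zero.2 Nat.card_pos.ne') h).symm

theorem invol_mem_center (hs : Setting H) {z : H} (hz : orderOf z = 2) (y : H) :
    y * z = z * y :=
  Subtype.ext (hs.invol_central (by rwa [Subgroup.orderOf_coe]) z.2 y y.2)

namespace Split

variable (sp : Split H)

/-- The induced class function. -/
noncomputable def vv (p : sp.Ix) : G → ℂ := indFun H (sp.th p)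

/-- The sum over the involutions of `H`. -/
noncomputable def om (p : sp.Ix) : ℂ := ∑ z ∈ inv2 H, sp.th p z

theorem th_class (p : sp.Ix) : IsClassFunction H (sp.th p) :=
  H12.IsCharacter.isClassFunction (H16.char_of_irr (sp.th_irr p))

theorem vv_invol (hs : Setting H) (p : sp.Ix) (t : H) (ht : orderOf t = 2) :
    sp.vv p (t : G) = sp.om p := by
  have h1 : t ≠ 1 := ne_one_of_two ht
  rw [vv, indFun_eq_sum hs.hyp _ t h1, sum_cj hs t ht, ← mul_assoc,
    inv_mul_cancel₀ (Nat.cast_ne_zero.2 Nat.card_pos.ne'), one_mul]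
  rfl

theorem vv_one (p : sp.Ix) : sp.vv p 1 = (H.index : ℂ) * (sp.deg p : ℂ) := by
  rw [vv, H12.indFun_one, th_one]

theorem th_invol_mul (hs : Setting H) (p : sp.Ix) {z : H} (hz : orderOf z = 2) (y : H) :
    (sp.deg p : ℂ) * sp.th p (z * y) = sp.th p z * sp.th p y := by
  have h := H12.irr_class_product (⟨_, sp.th_irr p⟩ : IrrCharacter H) z y
  simp only at h
  have e : ∀ a : H, sp.th p (z * (a * y * a⁻¹)) = sp.th p (z * y) := by
    intro a
    refine H12.IsClassFunction.of_isConj (sp.th_class p) (isConj_iff.2 ⟨a⁻¹, ?_⟩)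
    rw [inv_inv, show a⁻¹ * (z * (a * y * a⁻¹)) * a = a⁻¹ * (z * a) * y by group,
      ← invol_mem_center hs hz a]
    group
  rw [Finset.sum_congr rfl fun a _ => e a, Finset.sum_const, Finset.card_univ,
    ← Nat.card_eq_fintype_card, nsmul_eq_mul, th_one] at h
  have hd : (sp.deg p : ℂ) ≠ 0 := Nat.cast_ne_zero.2 (by have := sp.deg_pos p; omega)
  have hc : (Nat.card H : ℂ) ≠ 0 := Nat.cast_ne_zero.2 Nat.card_pos.ne'
  field_simp at h
  linear_combination h

theorem th_invol (hs : Setting H) (p : sp.Ix) {z : H} (hz : orderOf z = 2) :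
    sp.th p z = (sp.deg p : ℂ) ∨ sp.th p z = -(sp.deg p : ℂ) := by
  have h := sp.th_invol_mul hs p hz z
  rw [mul_self_eq_one hz, th_one] at h
  exact mul_self_eq_mul_self_iff.1 h.symm

theorem om_int (hs : Setting H) (p : sp.Ix) : ∃ n : ℤ, sp.om p = (n : ℂ) := by
  classical
  refine ⟨∑ z ∈ inv2 H, if sp.th p z = (sp.deg p : ℂ) then (sp.deg p : ℤ) else -(sp.deg p : ℤ), ?_⟩
  rw [om, Int.cast_sum]
  refine Finset.sum_congr rfl fun z hz => ?_
  split_ifs with h
  · simp [h]
  · simp [(sp.th_invol hs p (mem_inv2.1 hz)).resolve_left h]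

theorem om_cases (hs : Setting H) (p : sp.Ix) :
    sp.om p = (H.relIndex N : ℂ) * sp.deg p ∨ sp.om p = -(sp.deg p : ℂ) := by
  classical
  by_cases h : ∀ z ∈ inv2 H, sp.th p z = (sp.deg p : ℂ)
  · left
    rw [om, Finset.sum_congr rfl h, Finset.sum_const, card_inv2 hs, nsmul_eq_mul]
  · right
    push Not at h
    obtain ⟨z₀, hz₀, hne⟩ := h
    have hz0 := mem_inv2.1 hz₀
    have hth := (sp.th_invol hs p hz0).resolve_left hne
    set E : Finset H := insert 1 (inv2 H) with hE
    have hmul : ∀ y ∈ E, z₀ * y ∈ E := by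
      intro y hy
      rcases Finset.mem_insert.1 hy with rfl | hy
      · rw [mul_one]
        exact Finset.mem_insert_of_mem hz₀
      · by_cases hy0 : z₀ = y
        · subst hy0
          exact Finset.mem_insert.2 (Or.inl (mul_self_eq_one hz0))
        · refine Finset.mem_insert_of_mem (mem_inv2.2 ?_)
          rw [← Subgroup.orderOf_coe]
          exact hs.mul_invol (by rwa [Subgroup.orderOf_coe]) z₀.2
            (by rw [Subgroup.orderOf_coe]; exact mem_inv2.1 hy) y.2 (fun e => hy0 (Subtype.ext e))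
    have hinv : ∀ y : H, z₀ * (z₀ * y) = y := fun y => by
      rw [← mul_assoc, mul_self_eq_one hz0, one_mul]
    have hsum : ∑ y ∈ E, sp.th p y = -∑ y ∈ E, sp.th p y := by
      rw [← Finset.sum_neg_distrib]
      refine Finset.sum_nbij' (z₀ * ·) (z₀ * ·) hmul hmul (fun y _ => hinv y) (fun y _ => hinv y)
        fun y _ => ?_
      have := sp.th_invol_mul hs p hz0 y
      rw [hth] at this
      have hd : (sp.deg p : ℂ) ≠ 0 := Nat.cast_ne_zero.2 (by have := sp.deg_pos p; omega)
      exact mul_left_cancel₀ hd (by linear_combination this)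
    have h1 : (1 : H) ∉ inv2 H := fun e => ne_one_of_two (mem_inv2.1 e) rfl
    rw [hE, Finset.sum_insert h1, th_one] at hsum
    rw [om]
    linear_combination (1 / 2 : ℂ) * hsum

theorem om_sq (hs : Setting H) (p : sp.Ix) :
    sp.om p ^ 2 = ((H.relIndex N : ℂ) - 1) * sp.deg p * sp.om p
      + (H.relIndex N : ℂ) * (sp.deg p : ℂ) ^ 2 := by
  rcases sp.om_cases hs p with h | h <;> rw [h] <;> ring

theorem th_tw_cj (x : N) (p : sp.Ix) : sp.th (sp.tw x p) = fun h => sp.th p (H13.TI.cj H x h) :=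
  funext fun h => sp.th_tw x p h

theorem om_tw (x : N) (p : sp.Ix) : sp.om (sp.tw x p) = sp.om p := by
  classical
  have hb : Function.Bijective (H13.TI.cj H x) :=
    Finite.injective_iff_bijective.1 (Split.cj_injective x)
  refine Finset.sum_bij (fun z _ => H13.TI.cj H x z)
    (fun z hz => mem_inv2.2 ((cj_orderOf x z).trans (mem_inv2.1 hz)))
    (fun a _ b _ h => hb.1 h) (fun b hb' => ?_) (fun z _ => sp.th_tw x p z)
  obtain ⟨a, rfl⟩ := hb.2 b
  exact ⟨a, mem_inv2.2 ((cj_orderOf x a).symm.trans (mem_inv2.1 hb')), rfl⟩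

theorem sum_deg_sq [Fintype sp.Ix] :
    ∑ p : sp.Ix, (sp.deg p : ℂ) ^ 2
      = (Nat.card sp.S : ℂ) * Nat.card {δ : sp.D →* ℂˣ // δ ≠ 1} := by
  classical
  haveI := Fintype.ofFinite sp.S
  haveI : Finite (sp.D →* ℂˣ) := Nat.finite_of_card_ne_zero (by
    rw [H12.card_monoidHom_units]; exact Subgroup.index_ne_zero_of_finite)
  haveI := Fintype.ofFinite {δ : sp.D →* ℂˣ // δ ≠ 1}
  rw [show (Finset.univ : Finset sp.Ix) = Finset.univ ×ˢ Finset.univ by ext; simp,
    Finset.sum_product]
  simp only [Finset.sum_const, Finset.card_univ, nsmul_eq_mul, ← Nat.card_eq_fintype_card, deg,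
    ← H12.irr_apply_one, ← Finset.mul_sum]
  rw [H12.sum_degree_sq]
  ring

theorem sum_deg_om [Fintype sp.Ix] (hs : Setting H) :
    ∑ p : sp.Ix, (sp.deg p : ℂ) * sp.om p = 0 := by
  classical
  haveI := Fintype.ofFinite sp.S
  haveI : Finite (sp.D →* ℂˣ) := Nat.finite_of_card_ne_zero (by
    rw [H12.card_monoidHom_units]; exact Subgroup.index_ne_zero_of_finite)
  haveI := Fintype.ofFinite {δ : sp.D →* ℂˣ // δ ≠ 1}
  simp only [om, Finset.mul_sum]
  rw [Finset.sum_comm]
  refine Finset.sum_eq_zero fun z hz => ?_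
  have hz2 := mem_inv2.1 hz
  have hsnd : (sp.φ z).2 = 1 := sp.snd_eq_one (k := 1) (by rw [hz2, pow_one])
  have hfst : (sp.φ z).1 ≠ 1 := fun e => ne_one_of_two hz2 (sp.φ.injective (by
    rw [map_one]; exact Prod.ext e hsnd))
  rw [show (Finset.univ : Finset sp.Ix) = Finset.univ ×ˢ Finset.univ by ext; simp,
    Finset.sum_product,
    Finset.sum_comm]
  refine Finset.sum_eq_zero fun δ _ => ?_
  simp only [th, deg, hsnd, map_one, Units.val_one, mul_one]
  have := H12.column_orthogonality (G := sp.S) (sp.φ z).1 1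
  rw [if_neg (fun h => hfst (isConj_one_left.1 h))] at this
  simpa [H12.irr_apply_one, mul_comm] using this

end Split

end H22.CN
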