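import Mathlib
import Cfsg.Agent.H22.CN.Values
import Cfsg.Agent.H12.Integral

/-!
A nilpotent TI subgroup of even order with centralisers inside, whose normaliser properly
contains it, is a 2-group.
-/

set_option autoImplicit false
set_option linter.unusedSectionVars false
set_option linter.style.haveILetI false

open Cfsg
open scoped ComplexConjugate

namespace H22.CN

universe u

variable {G : Type u} [Group G] [Fintype G] {H : Subgroup G}

local notation "N" => Subgroup.normalizer (H : Set G)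

theorem irr_invol_int {K : Type u} [Group K] [Fintype K] {χ : K → ℂ} (hχ : IsIrrCharacter K χ)
    {g : K} (hg : g * g = 1) : ∃ n : ℤ, χ g = (n : ℂ) := by
  classical
  obtain ⟨m, ρ, hρ, rfl⟩ := hχ
  obtain ⟨μ, h1, h2, -⟩ := H12.exists_char_eigenvalues ρ g
  have hμ : ∀ i, μ i = 1 ∨ μ i = -1 := fun i => by
    obtain ⟨c, hc⟩ := orderOf_dvd_of_pow_eq_one (show g ^ 2 = 1 by rw [sq]; exact hg)
    have : μ i ^ 2 = 1 := by rw [hc, pow_mul, h1, one_pow]
    exact sq_eq_one_iff.1 this
  refine ⟨∑ i, if μ i = 1 then 1 else -1, ?_⟩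
  have := h2 1
  simp only [pow_one] at this
  rw [this, Int.cast_sum]
  refine Finset.sum_congr rfl fun i _ => ?_
  rcases hμ i with h | h <;> norm_num [h]

/-- The coset count. -/
theorem index_normalizer_big (hs : Setting H) :
    Nat.card H + 1 ≤ (N : Subgroup G).index := by
  classical
  obtain ⟨g, hg⟩ : ∃ g, g ∉ N := by
    by_contra h
    push Not at h
    exact hs.proper (eq_top_iff.2 fun x _ => h x)
  have h1 : Nat.card (Option H) ≤ Nat.card (G ⧸ (N : Subgroup G)) := by
    refine Nat.card_le_card_of_injective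
      (fun o => o.elim ((1 : G) : G ⧸ (N : Subgroup G)) fun h : H => ((h : G) * g : G)) ?_
    have hne : ∀ h : H, ((1 : G) : G ⧸ (N : Subgroup G)) ≠ (((h : G) * g : G)) := by
      intro h e
      rw [QuotientGroup.eq, inv_one, one_mul] at e
      refine hg ?_
      have := mul_mem (inv_mem (Subgroup.le_normalizer h.2)) e
      simpa using this
    rintro (_ | a) (_ | b) e
    · rfl
    · exact absurd e (hne b)
    · exact absurd e.symm (hne a)
    · have e' : (((a : G) * g : G) : G ⧸ (N : Subgroup G)) = (((b : G) * g : G)) := e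
      rw [QuotientGroup.eq] at e'
      congr 1
      set x : G := (a : G)⁻¹ * b with hx
      have hxH : x ∈ H := mul_mem (inv_mem a.2) b.2
      have hxN : g⁻¹ * x * g ∈ N := by
        rw [hx]
        rw [show g⁻¹ * ((a : G)⁻¹ * b) * g = ((a : G) * g)⁻¹ * (b * g) by group]
        exact e'
      have hx1 : x = 1 := by
        by_contra hx1
        have hcop : (orderOf (g⁻¹ * x * g)).Coprime (H.relIndex N) := by
          have : orderOf (g⁻¹ * x * g) = orderOf x := by
            simpa using orderOf_conj_eq g⁻¹ x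
          rw [this]
          refine Nat.Coprime.coprime_dvd_left (Subgroup.orderOf_dvd_natCard H hxH) ?_
          exact Nat.Coprime.coprime_dvd_right
            (Dvd.intro _ (Subgroup.relIndex_mul_index Subgroup.le_normalizer)) hs.cop
        haveI : (H.subgroupOf N).Normal := Subgroup.normal_in_normalizer
        have hpm := Subgroup.pow_index_mem (H.subgroupOf N) ⟨_, hxN⟩
        rw [Subgroup.mem_subgroupOf] at hpm
        have hmem : g⁻¹ * x * g ∈ H := by
          obtain ⟨k, hk⟩ := exists_pow_eq_self_of_coprime hcop.symm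
          rw [← hk]
          exact pow_mem hpm k
        exact hg (inv_mem_iff.1 (hs.hyp.ti g⁻¹ x hxH hx1 (by simpa using hmem)))
      exact Subtype.ext (inv_mul_eq_one.1 hx1)
  rw [Finite.card_option, ← Subgroup.index_eq_card] at h1
  exact h1

namespace Split

variable [Fintype H] [Fintype (Subgroup.normalizer (H : Set G) : Subgroup G)] (sp : Split H)
  [Fintype sp.Ix] [Fintype sp.Orb]

/-- A representative of an orbit. -/
noncomputable def rep (q : sp.Orb) : sp.Ix := Quotient.out q

theorem rep_count (hs : Setting H) [DecidableEq sp.Ix] [DecidableEq sp.Orb] (q q' : sp.Orb) :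
    ∑ x : N, (if sp.rep q = sp.tw x (sp.rep q') then (1 : ℂ) else 0)
      = if q = q' then (Nat.card H : ℂ) else 0 := by
  rw [Finset.sum_boole]
  by_cases h : q = q'
  · subst h
    rw [if_pos rfl, ← sp.card_tw_eq hs (sp.rep q) 1, Nat.card_eq_fintype_card,
      Fintype.card_subtype]
    congr 2
    refine Finset.filter_congr fun x _ => ?_
    rw [sp.tw_one]
    exact eq_comm
  · rw [if_neg h]
    rw [Finset.filter_false_of_mem, Finset.card_empty, Nat.cast_zero]
    intro x _ e
    refine h ?_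
    rw [← Quotient.out_eq q, ← Quotient.out_eq q']
    exact Quotient.sound ((sp.setoid.iseqv.symm ⟨x, e.symm⟩))

theorem orbit_sum (hs : Setting H) {M : Type*} [AddCommMonoid M] (f : sp.Ix → M)
    (hf : ∀ (x : N) p, f (sp.tw x p) = f p) :
    ∑ p, f p = H.relIndex N • ∑ q : sp.Orb, f (sp.rep q) := by
  classical
  rw [← Finset.sum_fiberwise (g := fun p : sp.Ix => (Quotient.mk sp.setoid p : sp.Orb)),
    Finset.smul_sum]
  refine Finset.sum_congr rfl fun q _ => ?_
  rw [← sp.card_orbit hs (sp.rep q), Nat.card_eq_fintype_card, Fintype.card_subtype]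
  rw [Finset.sum_congr rfl (g := fun _ => f (sp.rep q)), Finset.sum_const]
  · congr 2
    refine Finset.filter_congr fun p _ => ?_
    constructor
    · intro h
      exact sp.setoid.iseqv.symm (Quotient.exact (h.trans (Quotient.out_eq q).symm))
    · rintro ⟨x, rfl⟩
      exact (Quotient.sound (sp.setoid.iseqv.symm ⟨x, rfl⟩)).trans (Quotient.out_eq q)
  · intro p hp
    obtain ⟨x, hx⟩ : ∃ x : N, sp.tw x p = sp.rep q :=
      Quotient.exact ((Finset.mem_filter.1 hp).2.trans (Quotient.out_eq q).symm)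
    rw [← hx, hf]

theorem linkData (hs : Setting H) [DecidableEq sp.Orb] :
    LinkData (fun q => sp.vv (sp.rep q)) (fun q => sp.deg (sp.rep q)) := by
  classical
  refine ⟨fun q => H13.isGeneralizedCharacter_indFun H (H16.gen_of_irr (sp.th_irr _)),
    fun i j => by rw [sp.vv_one, sp.vv_one]; ring, fun i j k l => ?_⟩
  have e : ∀ i j : sp.Orb,
      (sp.deg (sp.rep j) : ℤ) • sp.vv (sp.rep i) - (sp.deg (sp.rep i) : ℤ) • sp.vv (sp.rep j)
        = indFun H ((sp.deg (sp.rep j) : ℂ) • sp.th (sp.rep i)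
            - (sp.deg (sp.rep i) : ℂ) • sp.th (sp.rep j)) := by
    intro i j
    rw [H12.indFun_sub, H12.indFun_smul, H12.indFun_smul]
    simp only [vv, ← Int.cast_smul_eq_zsmul ℂ, Int.cast_natCast]
  rw [e i j, e k l, indFun_pair hs.hyp _ _ (by simp [th_one]; ring)]
  have e2 : ∀ x : N, (fun h => ((sp.deg (sp.rep l) : ℂ) • sp.th (sp.rep k)
      - (sp.deg (sp.rep k) : ℂ) • sp.th (sp.rep l)) (H13.TI.cj H x h))
      = (sp.deg (sp.rep l) : ℂ) • sp.th (sp.tw x (sp.rep k))
        - (sp.deg (sp.rep k) : ℂ) • sp.th (sp.tw x (sp.rep l)) := by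
    intro x
    funext h
    simp [sp.th_tw]
  simp only [e2, H12.classInner_sub_left, H12.classInner_sub_right, H12.classInner_smul_left,
    H12.classInner_smul_right, Complex.conj_natCast, sp.th_inner, Finset.sum_sub_distrib,
    ← Finset.mul_sum, sp.rep_count hs]
  have hc : (Nat.card H : ℂ) ≠ 0 := Nat.cast_ne_zero.2 Nat.card_pos.ne'
  split_ifs <;> field_simp <;> ring

end Split

set_option maxHeartbeats 1000000 in
-- one long counting argument
theorem false_of_setting (hs : Setting H) (hnot : ¬ IsPGroup 2 H) (he : H.relIndex N ≠ 1) :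
    False := by
  classical
  haveI := Fintype.ofFinite H
  haveI := Fintype.ofFinite (N : Subgroup G)
  obtain ⟨sp⟩ := exists_split hs hnot
  haveI := hs.nilp
  haveI : Finite (sp.D →* ℂˣ) := Nat.finite_of_card_ne_zero (by
    rw [H12.card_monoidHom_units]; exact Subgroup.index_ne_zero_of_finite)
  haveI := Fintype.ofFinite sp.Ix
  haveI := Fintype.ofFinite sp.Orb
  haveI := Fintype.ofFinite sp.S
  haveI := Fintype.ofFinite sp.D
  haveI := Fintype.ofFinite {δ : sp.D →* ℂˣ // δ ≠ 1}
  set e := H.relIndex N with hedef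
  have hepos : 0 < e := Nat.pos_of_ne_zero (by
    intro h0
    have := hs.odd_relIndex
    rw [← hedef, h0] at this
    exact absurd this (by decide))
  have hodd : Odd e := hs.odd_relIndex
  -- the non-trivial linear characters of `D`
  set R := Nat.card {δ : sp.D →* ℂˣ // δ ≠ 1} with hR
  haveI : Nontrivial sp.D := (Subgroup.nontrivial_iff_ne_bot _).2 sp.hD1
  haveI : Group.IsSolvable sp.D := inferInstance
  have hRval : R + 1 = (commutator sp.D).index := by
    rw [← H12.card_monoidHom_units, hR]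
    haveI := Fintype.ofFinite (sp.D →* ℂˣ)
    rw [Nat.card_eq_fintype_card, Nat.card_eq_fintype_card, Fintype.card_subtype_compl,
      Fintype.card_subtype_eq, Nat.sub_add_cancel (Fintype.card_pos)]
  have hR1 : 1 ≤ R := by
    have h1 : (commutator sp.D).index ≠ 1 := fun h =>
      (ne_of_lt (Group.IsSolvable.commutator_lt_top_of_nontrivial sp.D)) (Subgroup.index_eq_one.1 h)
    have h2 : (commutator sp.D).index ≠ 0 := Subgroup.index_ne_zero_of_finite
    omega
  have hReven : Even R := by
    have h := sp.hD.of_dvd_nat (Subgroup.index_dvd_card (commutator sp.D))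
    rw [← hRval] at h
    rcases Nat.even_or_odd R with h' | h'
    · exact h'
    · exact absurd h (Nat.not_odd_iff_even.2 h'.add_one)
  -- a linear index
  obtain ⟨δ₀, hδ₀⟩ : Nonempty {δ : sp.D →* ℂˣ // δ ≠ 1} := (Nat.card_pos_iff.1 hR1).1
  set p₀ : sp.Ix := (H12.oneIrr sp.S, ⟨δ₀, hδ₀⟩) with hp₀
  set o : sp.Orb := Quotient.mk sp.setoid p₀ with ho_def
  set a : sp.Orb → ℕ := fun q => sp.deg (sp.rep q) with ha_def
  have hone_tw : ∀ (x : N) (p : sp.Ix), p.1 = H12.oneIrr sp.S → (sp.tw x p).1 = H12.oneIrr sp.S := by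
    intro x p hp
    refine Subtype.ext (funext fun y => ?_)
    rw [Split.tw, H12.irrCongr_apply, hp, H12.oneIrr_apply, H12.oneIrr_apply]
  have hao : a o = 1 := by
    obtain ⟨x, hx⟩ : ∃ x : N, sp.tw x p₀ = sp.rep o :=
      sp.setoid.iseqv.symm (Quotient.exact (Quotient.out_eq o))
    show sp.deg (sp.rep o) = 1
    rw [← hx, sp.deg_tw]
    have : ((sp.deg p₀ : ℕ) : ℂ) = ((1 : ℕ) : ℂ) := by
      rw [Split.deg, ← H12.irr_apply_one, hp₀, H12.oneIrr_apply, Nat.cast_one]
    exact_mod_cast this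
  have heR : e ∣ R := by
    have h := sp.orbit_sum hs (fun p => if p.1 = H12.oneIrr sp.S then (1 : ℕ) else 0) (fun x p => by
      by_cases hp : p.1 = H12.oneIrr sp.S
      · rw [if_pos hp, if_pos (hone_tw x p hp)]
      · rw [if_neg hp, if_neg (fun hp' => hp ?_)]
        have := hone_tw x⁻¹ _ hp'
        rwa [← sp.tw_mul, mul_inv_cancel, sp.tw_one] at this)
    refine ⟨∑ q : sp.Orb, if (sp.rep q).1 = H12.oneIrr sp.S then (1 : ℕ) else 0, ?_⟩
    rw [← smul_eq_mul, ← h, Finset.sum_boole, ← Fintype.card_subtype, ← Nat.card_eq_fintype_card, hR]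
    exact Nat.card_congr
      { toFun := fun δ => ⟨(H12.oneIrr sp.S, δ), rfl⟩
        invFun := fun p => p.1.2
        left_inv := fun δ => rfl
        right_inv := fun p => Subtype.ext (Prod.ext p.2.symm rfl) }
  have hR2 : 2 * e ≤ R := by
    obtain ⟨k, hk⟩ := heR
    rcases Nat.lt_or_ge k 2 with hk2 | hk2
    · interval_cases k
      · omega
      · rw [mul_one] at hk
        exact absurd (hk ▸ hReven) (Nat.not_even_iff_odd.2 hodd)
    · rw [hk, mul_comm 2]
      exact Nat.mul_le_mul_left e hk2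
  obtain ⟨m, hm⟩ := IsPGroup.iff_card.1 sp.hS
  -- sums of squares of degrees
  have hsq : e * ∑ q : sp.Orb, a q ^ 2 = Nat.card sp.S * R := by
    have h := sp.orbit_sum hs (fun p => ((sp.deg p : ℕ) : ℂ) ^ 2) (fun x p => by simp only [sp.deg_tw])
    rw [sp.sum_deg_sq, nsmul_eq_mul] at h
    have h2 : ((e * ∑ q : sp.Orb, a q ^ 2 : ℕ) : ℂ) = ((Nat.card sp.S * R : ℕ) : ℂ) := by
      push_cast
      exact h.symm
    exact_mod_cast h2
  -- Feit's criterion
  have hweight : ∀ i, 1 < a i → 2 * a i ^ 2 ≤ below a i := by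
    intro i hi
    set A := a i with hA
    have hpow : ∀ σ : IrrCharacter sp.S, ∃ j, H12.degree (σ : sp.S → ℂ) = 2 ^ j := fun σ => by
      obtain ⟨j, -, hj⟩ := (Nat.dvd_prime_pow Nat.prime_two).1 (hm ▸ H12.irr_degree_dvd_card σ)
      exact ⟨j, hj⟩
    obtain ⟨j, hj⟩ := hpow (sp.rep i).1
    have hj' : A = 2 ^ j := hj
    set F : IrrCharacter sp.S → ℕ := fun σ => H12.degree (σ : sp.S → ℂ) ^ 2 with hF
    have hA2 : A ^ 2 ∣ Nat.card sp.S := by
      have h1 : A ^ 2 ≤ Nat.card sp.S := by
        rw [← H12.sum_degree_sq_nat (G := sp.S)]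
        exact Finset.single_le_sum (f := F) (fun _ _ => Nat.zero_le _) (Finset.mem_univ (sp.rep i).1)
      rw [hj', ← pow_mul, hm] at h1 ⊢
      exact pow_dvd_pow 2 ((Nat.pow_le_pow_iff_right (by norm_num)).1 h1)
    have hlow : A ^ 2 ≤ ∑ σ ∈ Finset.univ.filter (fun σ : IrrCharacter sp.S => H12.degree (σ : sp.S → ℂ) < A), F σ := by
      refine Nat.le_of_dvd ?_ ?_
      · refine lt_of_lt_of_le ?_ (Finset.single_le_sum (f := F) (fun _ _ => Nat.zero_le _)
          (a := H12.oneIrr sp.S) ?_)
        · exact pow_pos (H12.irr_degree_pos _) 2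
        · refine Finset.mem_filter.2 ⟨Finset.mem_univ _, ?_⟩
          have : H12.degree ((H12.oneIrr sp.S : IrrCharacter sp.S) : sp.S → ℂ) = 1 := by
            simp [H12.degree, H12.oneIrr_apply]
          omega
      · have h2 := Finset.sum_filter_add_sum_filter_not Finset.univ
          (fun σ : IrrCharacter sp.S => H12.degree (σ : sp.S → ℂ) < A) F
        rw [show ∑ σ, F σ = Nat.card sp.S from H12.sum_degree_sq_nat] at h2
        refine (Nat.dvd_add_left ?_).1 (h2 ▸ hA2)
        refine Finset.dvd_sum fun σ hσ => ?_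
        obtain ⟨k, hk⟩ := hpow σ
        have hle := not_lt.1 (Finset.mem_filter.1 hσ).2
        rw [hj', hk] at hle
        show A ^ 2 ∣ H12.degree (σ : sp.S → ℂ) ^ 2
        rw [hj', hk]
        exact pow_dvd_pow_of_dvd (pow_dvd_pow 2 ((Nat.pow_le_pow_iff_right (by norm_num)).1 hle)) 2
    have h3 : e * below a i
        = R * ∑ σ ∈ Finset.univ.filter (fun σ : IrrCharacter sp.S => H12.degree (σ : sp.S → ℂ) < A), F σ := by
      have h := sp.orbit_sum hs (fun p => if sp.deg p < A then sp.deg p ^ 2 else 0)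
        (fun x p => by simp only [sp.deg_tw])
      rw [smul_eq_mul, show (∑ q : sp.Orb, if sp.deg (sp.rep q) < A then sp.deg (sp.rep q) ^ 2 else 0)
        = below a i by rw [below, Finset.sum_filter]] at h
      rw [← h, show (Finset.univ : Finset sp.Ix) = Finset.univ ×ˢ Finset.univ by ext; simp,
        Finset.sum_product]
      rw [Finset.sum_comm, Finset.sum_congr rfl (g := fun _ => ∑ σ ∈ Finset.univ.filter
        (fun σ : IrrCharacter sp.S => H12.degree (σ : sp.S → ℂ) < A), F σ)
        (fun y _ => by rw [Finset.sum_filter]; rfl)]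
      rw [Finset.sum_const, smul_eq_mul, Finset.card_univ, hR, Nat.card_eq_fintype_card]
    have h4 : e * (2 * A ^ 2) ≤ e * below a i := by
      rw [h3, ← mul_assoc]
      exact Nat.mul_le_mul (by omega) hlow
    exact Nat.le_of_mul_le_mul_left h4 hepos
  obtain ⟨ε, hε, μ, hμ, hinj, hlink⟩ :=
    exists_linked (sp.linkData hs) (fun q => sp.deg_pos _) (o := o) hao hweight
  have hεC : (ε : ℂ) * ε = 1 := by rcases hε with rfl | rfl <;> norm_num
  -- values
  obtain ⟨t₀, ht₀, ht₀H⟩ := hs.exists_invol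
  set t : H := ⟨t₀, ht₀H⟩ with htdef
  have ht : orderOf t = 2 := by rwa [htdef, Subgroup.orderOf_mk]
  have htt : (t : G) * t = 1 := mul_self_eq_one (by rwa [Subgroup.orderOf_coe])
  set Om : sp.Orb → ℂ := fun q => sp.om (sp.rep q) with hOm
  obtain ⟨μt, hμt⟩ := irr_invol_int (hμ o) htt
  obtain ⟨Oo, hOo⟩ := sp.om_int hs (sp.rep o)
  set B : ℤ := ε * μt - Oo with hB
  have hval : ∀ q, μ q (t : G) = (ε : ℂ) * ((a q : ℂ) * B + Om q) := by
    intro q
    have h := congrFun (hlink q) (t : G)
    simp only [Pi.sub_apply, Pi.smul_apply] at h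
    simp only [zsmul_eq_mul, sp.vv_invol hs _ t ht, hμt] at h
    rw [show sp.om (sp.rep q) = Om q from rfl, hOo] at h
    rw [hB]
    push_cast at h ⊢
    simp only [ha_def]
    linear_combination (-(ε : ℂ)) * h - μ q (t : G) * hεC
  obtain ⟨f, hf0, hf⟩ := H16.irr_one (hμ o)
  have hdeg : ∀ q, μ q 1 = (a q : ℂ) * f := by
    intro q
    have h := congrFun (hlink q) 1
    simp only [Pi.sub_apply, Pi.smul_apply] at h
    simp only [zsmul_eq_mul, sp.vv_one, hf] at h
    have hao' : (sp.deg (sp.rep o) : ℂ) = 1 := by exact_mod_cast hao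
    rw [hao'] at h
    push_cast at h
    simp only [ha_def]
    linear_combination (-(ε : ℂ)) * h - (μ q 1 - (sp.deg (sp.rep q) : ℂ) * f) * hεC
  -- the two sums
  have hW0 : ∑ q : sp.Orb, (a q : ℂ) * Om q = 0 := by
    have h := sp.orbit_sum hs (fun p => (sp.deg p : ℂ) * sp.om p) (fun x p => by
      simp only [sp.deg_tw, sp.om_tw])
    rw [sp.sum_deg_om hs, nsmul_eq_mul] at h
    exact (mul_eq_zero.1 h.symm).resolve_left (Nat.cast_ne_zero.2 hepos.ne')
  have hW : ∑ q : sp.Orb, Om q ^ 2 = ((Nat.card sp.S * R : ℕ) : ℂ) := by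
    rw [← hsq]
    push_cast
    rw [Finset.mul_sum]
    have h1 : ∀ q, Om q ^ 2 = ((e : ℂ) - 1) * ((a q : ℂ) * Om q) + (e : ℂ) * (a q : ℂ) ^ 2 := by
      intro q
      rw [hOm, sp.om_sq hs (sp.rep q)]
      ring
    rw [Finset.sum_congr rfl fun q _ => h1 q, Finset.sum_add_distrib, ← Finset.mul_sum, hW0,
      mul_zero, zero_add]
  set W : ℂ := ∑ q : sp.Orb, Om q ^ 2 with hWdef
  have hSpos : 0 < Nat.card sp.S := Nat.card_pos
  have hW1 : W ≠ 0 := by
    rw [hW]
    exact Nat.cast_ne_zero.2 (Nat.mul_ne_zero hSpos.ne' (by omega))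
  set Φ : G → ℂ := fun g => ∑ q : sp.Orb, Om q * sp.vv (sp.rep q) g with hΦ
  have hΦμ : ∀ g, Φ g = (ε : ℂ) * ∑ q : sp.Orb, Om q * μ q g := by
    intro g
    have h1 : ∀ q, sp.vv (sp.rep q) g =
        (ε : ℂ) * μ q g + (a q : ℂ) * (sp.vv (sp.rep o) g - (ε : ℂ) * μ o g) := by
      intro q
      have h := congrFun (hlink q) g
      simp only [Pi.sub_apply, Pi.smul_apply] at h
      simp only [zsmul_eq_mul] at h
      push_cast at h
      simp only [ha_def]
      linear_combination h
    show ∑ q : sp.Orb, Om q * sp.vv (sp.rep q) g = _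
    rw [Finset.sum_congr rfl fun q _ => by rw [h1 q]]
    simp only [mul_add, Finset.sum_add_distrib, ← mul_assoc]
    rw [← Finset.sum_mul, show ∑ q : sp.Orb, Om q * (a q : ℂ) = 0 by
      simpa [mul_comm] using hW0, zero_mul, add_zero, Finset.mul_sum]
    exact Finset.sum_congr rfl fun q _ => by ring
  have hsum1 : ∑ y : G, Φ ((t : G) * (y * t * y⁻¹))
      = W * ((e : ℂ) * Nat.card H - Nat.card H) := by
    have hval2 : ∀ y : G, Φ ((t : G) * (y * t * y⁻¹)) = if y ∈ N ∧ y ∉ H then W else 0 := by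
      intro y
      have hΦ1 : Φ 1 = 0 := by
        simp only [hΦ, sp.vv_one]
        rw [show ∑ q : sp.Orb, Om q * ((H.index : ℂ) * (sp.deg (sp.rep q) : ℂ))
          = (H.index : ℂ) * ∑ q : sp.Orb, (a q : ℂ) * Om q by
            rw [Finset.mul_sum]; exact Finset.sum_congr rfl fun q _ => by simp [ha_def]; ring,
          hW0, mul_zero]
      by_cases hyN : y ∈ N
      · by_cases hyH : y ∈ H
        · rw [if_neg fun h => h.2 hyH]
          have hc := hs.invol_central ht₀ ht₀H y hyH
          have hy2 : y * (t : G) * y⁻¹ = t := by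
            show y * t₀ * y⁻¹ = t₀
            rw [hc, mul_inv_cancel_right]
          rw [hy2, htt, hΦ1]
        · rw [if_pos ⟨hyN, hyH⟩]
          set u : H := H13.TI.cj H ⟨y, hyN⟩ t with hu
          have hne : (t : G) ≠ u := by
            intro h
            refine hyH (hs.cent_mem ht₀H (ne_one_of_two ht₀) ?_)
            rw [hu, H13.TI.cj_coe] at h
            exact (eq_mul_inv_iff_mul_eq.1 h).symm
          have hu2 : orderOf (u : G) = 2 := by rw [Subgroup.orderOf_coe, hu, cj_orderOf, ht]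
          have htu := hs.mul_invol (by rwa [Subgroup.orderOf_coe]) t.2 hu2 u.2 hne
          rw [show y * (t : G) * y⁻¹ = u from rfl]
          have hz : orderOf (t * u : H) = 2 := by rwa [← Subgroup.orderOf_coe, Subgroup.coe_mul]
          simp only [hΦ, ← Subgroup.coe_mul, sp.vv_invol hs _ _ hz, hWdef]
          exact Finset.sum_congr rfl fun q _ => by rw [sq]
      · rw [if_neg fun h => hyN h.1]
        have hu2 : orderOf (y * (t : G) * y⁻¹) = 2 := by
          rw [orderOf_conj_eq, Subgroup.orderOf_coe, ht]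
        have huH : y * (t : G) * y⁻¹ ∉ H := fun h =>
          hyN (hs.hyp.ti y t t.2 (ne_one_of_two (by rwa [Subgroup.orderOf_coe])) h)
        simp only [hΦ, Split.vv]
        refine Finset.sum_eq_zero fun q _ => ?_
        rw [indFun_eq_zero _ (hs.not_mem_conj (by rwa [Subgroup.orderOf_coe]) t.2 hu2 huH),
          mul_zero]
    rw [Finset.sum_congr rfl fun y _ => hval2 y, ← Finset.sum_filter, Finset.sum_const,
      nsmul_eq_mul, mul_comm]
    congr 1
    have hc : (Finset.univ.filter fun y : G => y ∈ N ∧ y ∉ H).card + Nat.card H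
        = e * Nat.card H := by
      rw [← card_normalizer_eq, Nat.card_eq_fintype_card (α := H), Fintype.card_subtype,
        Nat.card_eq_fintype_card (α := (N : Subgroup G)), Fintype.card_subtype,
        ← Finset.card_union_of_disjoint]
      · congr 1
        ext y
        simp only [Finset.mem_union, Finset.mem_filter, Finset.mem_univ, true_and]
        exact ⟨fun h => h.elim (·.1) (fun h => Subgroup.le_normalizer h),
          fun h => (em (y ∈ H)).symm.imp (fun h' => ⟨h, h'⟩) id⟩
      · rw [Finset.disjoint_left]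
        intro y h1 h2
        simp only [Finset.mem_filter] at h1 h2
        exact h1.2.2 h2.2
    rw [eq_sub_iff_add_eq]
    exact_mod_cast hc
  have hsum2 : ∑ y : G, Φ ((t : G) * (y * t * y⁻¹))
      = (ε : ℂ) * Nat.card G * ((2 * B + e - 1) * W) / f := by
    simp only [hΦμ, ← Finset.mul_sum]
    rw [Finset.sum_comm]
    simp only [← Finset.mul_sum]
    have h1 : ∀ q, Om q * ∑ y : G, μ q ((t : G) * (y * t * y⁻¹)) =
        (Nat.card G : ℂ) / f * ((B : ℂ) ^ 2 * ((a q : ℂ) * Om q) + (2 * (B : ℂ) + e - 1) * Om q ^ 2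
          + e * ((a q : ℂ) * Om q)) := by
      intro q
      have h := H12.irr_class_product (⟨μ q, hμ q⟩ : IrrCharacter G) (t : G) (t : G)
      simp only at h
      rw [h, hval, hdeg]
      have ha0 : (a q : ℂ) ≠ 0 := Nat.cast_ne_zero.2 (by have := sp.deg_pos (sp.rep q); simp [ha_def]; omega)
      have hf0' : (f : ℂ) ≠ 0 := Nat.cast_ne_zero.2 hf0.ne'
      have hsq' := sp.om_sq hs (sp.rep q)
      simp only [← hedef] at hsq'
      field_simp
      have hsq2 : Om q ^ 2 = ((e : ℂ) - 1) * (a q : ℂ) * Om q + (e : ℂ) * (a q : ℂ) ^ 2 := hsq'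
      linear_combination (((a q : ℂ) * B + Om q) ^ 2 * Om q) * hεC + Om q * hsq2
    rw [Finset.sum_congr rfl fun q _ => h1 q, ← Finset.mul_sum, Finset.sum_add_distrib,
      Finset.sum_add_distrib, ← Finset.mul_sum, ← Finset.mul_sum, ← Finset.mul_sum, hW0, ← hWdef]
    ring
  -- the equation
  set z : ℤ := ε * (2 * B + e - 1) with hzdef
  have hz : z * Nat.card G = (f : ℤ) * (Nat.card H * ((e : ℤ) - 1)) := by
    have h := hsum2.symm.trans hsum1
    rw [div_eq_iff (Nat.cast_ne_zero.2 hf0.ne')] at h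
    have h2 : ((z * Nat.card G : ℤ) : ℂ) = (((f : ℤ) * (Nat.card H * ((e : ℤ) - 1)) : ℤ) : ℂ) := by
      rw [hzdef]
      push_cast
      apply mul_right_cancel₀ hW1
      linear_combination h
    exact_mod_cast h2
  have hhpos : 0 < Nat.card H := Nat.card_pos
  have he2 : 2 ≤ e := by omega
  have hG : Nat.card G ≤ f * (Nat.card H * (e - 1)) := by
    have h1 : z ≠ 0 := by
      intro h0
      rw [h0, zero_mul] at hz
      rcases mul_eq_zero.1 hz.symm with h | h
      · omega
      · rcases mul_eq_zero.1 h with h | h <;> omega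
    have h2 : (Nat.card G : ℤ) ≤ |z| * Nat.card G :=
      le_mul_of_one_le_left (Int.natCast_nonneg _) (Int.one_le_abs h1)
    rw [← abs_of_nonneg (Int.natCast_nonneg (Nat.card G)), ← abs_mul, hz,
      abs_of_nonneg (Int.natCast_nonneg (Nat.card G)),
      abs_of_nonneg (mul_nonneg (Int.natCast_nonneg _) (mul_nonneg (Int.natCast_nonneg _) (by omega)))]
      at h2
    have : ((Nat.card G : ℕ) : ℤ) ≤ ((f * (Nat.card H * (e - 1)) : ℕ) : ℤ) := by
      push_cast [Nat.cast_sub (show 1 ≤ e by omega)]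
      exact h2
    exact_mod_cast this
  -- degrees
  have hbound : f ^ 2 * (Nat.card sp.S * R) ≤ e * Nat.card G := by
    rw [← hsq, ← mul_assoc, mul_comm (f ^ 2), mul_assoc]
    refine Nat.mul_le_mul_left e ?_
    rw [← H12.sum_degree_sq_nat (G := G), Finset.mul_sum]
    let ι : sp.Orb ↪ IrrCharacter G :=
      ⟨fun q => ⟨μ q, hμ q⟩, fun q q' h => hinj (congrArg Subtype.val h)⟩
    refine le_of_eq_of_le ?_ (Finset.sum_le_sum_of_subset (Finset.subset_univ (Finset.univ.map ι)))
    rw [Finset.sum_map]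
    refine Finset.sum_congr rfl fun q _ => ?_
    have h : ((H12.degree (μ q) : ℕ) : ℂ) = ((a q * f : ℕ) : ℂ) := by
      rw [← H12.irr_apply_one (⟨μ q, hμ q⟩ : IrrCharacter G)]
      push_cast
      exact hdeg q
    show f ^ 2 * a q ^ 2 = H12.degree (μ q) ^ 2
    rw [Nat.cast_injective h]
    ring
  have hS1 : e + 1 ≤ Nat.card sp.S := by
    rw [show e + 1 = (insert (1 : H) (inv2 H)).card by
      rw [Finset.card_insert_of_notMem fun h => ne_one_of_two (mem_inv2.1 h) rfl, card_inv2 hs],
      Nat.card_eq_fintype_card, ← Finset.card_univ]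
    refine Finset.card_le_card_of_injOn (fun z => (sp.φ z).1) (fun z _ => Finset.mem_univ _) ?_
    intro z hz w hw h
    have hsnd : ∀ z ∈ insert (1 : H) (inv2 H), (sp.φ z).2 = 1 := by
      intro z hz
      rcases Finset.mem_insert.1 hz with rfl | hz
      · simp
      · exact sp.snd_eq_one (k := 1) (by rw [mem_inv2.1 hz, pow_one])
    exact sp.φ.injective (Prod.ext h ((hsnd z hz).trans (hsnd w hw).symm))
  have hGbig : e * Nat.card H * (Nat.card H + 1) ≤ Nat.card G := by
    rw [← (N : Subgroup G).card_mul_index, card_normalizer_eq, ← hedef]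
    exact Nat.mul_le_mul_left _ (index_normalizer_big hs)
  -- contradiction
  set h := Nat.card H with hh
  set g := Nat.card G with hg
  set sR := Nat.card sp.S * R with hsR
  have c1 : g ^ 2 * sR ≤ e * g * (h * (e - 1)) ^ 2 := by
    calc g ^ 2 * sR ≤ (f * (h * (e - 1))) ^ 2 * sR :=
          Nat.mul_le_mul_right _ (Nat.pow_le_pow_left hG 2)
      _ = f ^ 2 * sR * (h * (e - 1)) ^ 2 := by ring
      _ ≤ e * g * (h * (e - 1)) ^ 2 := Nat.mul_le_mul_right _ hbound
  have hgpos : 0 < g := Nat.card_pos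
  have c2 : g * sR ≤ e * (h * (e - 1)) ^ 2 := by
    refine Nat.le_of_mul_le_mul_left ?_ hgpos
    calc g * (g * sR) = g ^ 2 * sR := by ring
      _ ≤ _ := c1
      _ = g * (e * (h * (e - 1)) ^ 2) := by ring
  have c3 : e * h * (h + 1) * sR ≤ e * h * (h * (e - 1) ^ 2) := by
    calc e * h * (h + 1) * sR ≤ g * sR := Nat.mul_le_mul_right _ hGbig
      _ ≤ _ := c2
      _ = _ := by ring
  rw [mul_assoc (e * h)] at c3
  have c4 := Nat.le_of_mul_le_mul_left c3 (Nat.mul_pos hepos hhpos)
  have c5 : (e + 1) * (2 * e) ≤ sR := Nat.mul_le_mul hS1 hR2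
  have c6 : (e - 1) ^ 2 < sR := by
    refine lt_of_lt_of_le ?_ c5
    calc (e - 1) ^ 2 ≤ e ^ 2 := Nat.pow_le_pow_left (Nat.sub_le e 1) 2
      _ < (e + 1) * (2 * e) := by nlinarith
  nlinarith

end H22.CN
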