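import Cfsg.Agent.H22.CN.Ext.Module
import Cfsg.Agent.H22.CN.Sz.Elementary
import Cfsg.Agent.H22.CN.Corollaries
import Cfsg.Agent.H11.CIT.Class

/-!
The structure of non-solvable groups with 2-group involution centralisers, and of non-solvable
CN-groups.
-/

set_option autoImplicit false
set_option linter.unusedSectionVars false
set_option linter.style.haveILetI false

namespace H22.CN

open Subgroup H11.CIT

universe u

theorem citList_of_equiv {A B : Type u} [Group A] [Group B] (f : A ≃* B) (h : CITList B) :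
    CITList A := by
  rcases h with ⟨F, iF, jF, hF, ⟨e⟩⟩ | ⟨F, iF, jF, hF, ⟨e⟩⟩ | ⟨F, iF, jF, m, hm, hF, ⟨e⟩⟩
  · exact Or.inl ⟨F, iF, jF, hF, ⟨f.trans e⟩⟩
  · exact Or.inr (Or.inl ⟨F, iF, jF, hF, ⟨f.trans e⟩⟩)
  · exact Or.inr (Or.inr ⟨F, iF, jF, m, hm, hF, ⟨f.trans e⟩⟩)

theorem cit_structure {G : Type u} [Group G] [Finite G] (hG : IsCIT G)
    (hns : ¬ Group.IsSolvable G) :
    (IsSimpleGroup G ∧ ¬ IsMulCommutative G) ∨
    (∃ (N : Subgroup G), N.Normal ∧ N.index = 2 ∧ ∃ (F : Type) (_ : Field F) (_ : Fintype F),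
        Fintype.card F = 9 ∧ Nonempty (N ≃* Matrix.ProjectiveSpecialLinearGroup (Fin 2) F)) ∨
    (∃ (N : Subgroup G) (_ : N.Normal), N ≠ ⊥ ∧ IsPGroup 2 N ∧ IsMulCommutative N ∧
        (∀ x ∈ N, x * x = 1) ∧
        ((∃ (F : Type) (_ : Field F) (_ : Fintype F), CharP F 2 ∧ 4 ≤ Fintype.card F ∧
            Nonempty (G ⧸ N ≃* Matrix.ProjectiveSpecialLinearGroup (Fin 2) F)) ∨
          Cfsg.IsSuzuki (G ⧸ N))) := by
  classical
  haveI : Fact (Nat.Prime 2) := ⟨Nat.prime_two⟩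
  haveI : Fact (Nat.Prime 3) := ⟨Nat.prime_three⟩
  set Q := Cfsg.pCore 2 G with hQ
  have hQ2 : IsPGroup 2 Q := H1.isPGroup_pCore 2 G
  haveI : Q.Normal := H1.pCore_normal' 2 G
  have hX : IsCIT (G ⧸ Q) := H28.CITGraph.isCIT_quotient hG Q
  have hns' : ¬ Group.IsSolvable (G ⧸ Q) := by
    intro h
    apply hns
    haveI := hQ2.isNilpotent
    exact Group.isSolvable_of_ker_le_range Q.subtype (QuotientGroup.mk' Q) (by simp)
  obtain ⟨N, hNn, hNs, hNc, hC⟩ :=
    H28.CITGraph.exists_simple hX hns' (H1.pCore_quotient_pCore 2 G)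
  haveI := hNn; haveI := hNs
  have hL : CITList N := H11.CIT.citClass N hNc (hX.subgroup N)
  rcases Ext.socle_top hX N hC hL with htop | ⟨hidx, F, iF, jF, hF, ⟨e⟩⟩
  · let f : G ⧸ Q ≃* N := Subgroup.topEquiv.symm.trans (MulEquiv.subgroupCongr htop.symm)
    haveI : IsSimpleGroup (G ⧸ Q) := f.isSimpleGroup
    have hXc : ¬ IsMulCommutative (G ⧸ Q) := fun h =>
      hNc ⟨⟨fun a b => f.symm.injective (by rw [map_mul, map_mul]; exact h.is_comm.comm _ _)⟩⟩
    by_cases hQb : Q = ⊥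
    · left
      let g : G ⧸ Q ≃* G := (QuotientGroup.quotientMulEquivOfEq hQb).trans QuotientGroup.quotientBot
      exact ⟨g.symm.isSimpleGroup, fun h =>
        hXc ⟨⟨fun a b => g.injective (by rw [map_mul, map_mul]; exact h.is_comm.comm _ _)⟩⟩⟩
    right; right
    have sq : ∀ x ∈ Q, x * x = 1 := by
      rcases Ext.quotient_list hG Q hQ2 hQb (citList_of_equiv f hL) with
        ⟨F, iF, jF, hc, h4, ⟨e⟩⟩ | ⟨F, iF, jF, m, hm, hF, ⟨e⟩⟩
      · obtain ⟨s⟩ := H64.psl2_char2_equiv (F := F)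
        have h3 : 3 ∣ Nat.card G := by
          have h := H28.CITGraph.three_dvd_psl2 (E := F)
          rw [← Nat.card_congr e.toEquiv] at h
          exact h.trans (Subgroup.card_quotient_dvd_card Q)
        obtain ⟨x, hx⟩ := exists_prime_orderOf_dvd_card' (G := G) 3 h3
        exact H79.SL2Fpf.sq_eq_one (K := F) (by rwa [Nat.card_eq_fintype_card]) _ G Q hQ2
          (e.trans s.symm) x hx (fun q hq h => hG.fpf' hQ2 (by rw [hx]; decide)
            (fun h1 => by rw [h1, orderOf_one] at hx; omega) hq (mul_inv_eq_iff_eq_mul.1 h)) le_rfl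
      · exact Sz.sq_eq_one hm hF _ G Q hQ2 (e.trans (H57.lieSzEquiv hm hF).symm)
          (Ext.oddFpf_of_cit hG hQ2) le_rfl
    have hinv : ∀ x ∈ Q, x⁻¹ = x := fun x hx => inv_eq_of_mul_eq_one_right (sq x hx)
    refine ⟨Q, inferInstance, hQb, hQ2, ⟨⟨fun a b => Subtype.ext ?_⟩⟩, sq, ?_⟩
    · show (a : G) * b = b * a
      rw [← hinv _ (mul_mem a.2 b.2), _root_.mul_inv_rev, hinv _ a.2, hinv _ b.2]
    rcases Ext.quotient_list hG Q hQ2 hQb (citList_of_equiv f hL) with h | h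
    · exact Or.inl h
    · exact Or.inr (isSuzuki_of_iso h)
  · by_cases hQb : Q = ⊥
    · right; left
      let g : G ⧸ Q ≃* G := (QuotientGroup.quotientMulEquivOfEq hQb).trans QuotientGroup.quotientBot
      exact ⟨N.map g.toMonoidHom, hNn.map _ g.surjective, (index_map_equiv N g).trans hidx,
        F, iF, jF, hF, ⟨(g.subgroupMap N).symm.trans e⟩⟩
    exfalso
    obtain ⟨V, _, _, _, ρ, h2, hρ⟩ := Ext.exists_module hG Q hQ2 hQb (MulEquiv.refl (G ⧸ Q))
    refine Ext.false_psl_nine hF h2 (ρ.comp (N.subtype.comp e.symm.toMonoidHom))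
      (fun x hx hodd v hv => hρ _ ?_ ?_ v hv)
    · intro h
      exact hx (e.symm.injective ((Subtype.ext h).trans (map_one e.symm).symm))
    · rwa [MonoidHom.comp_apply, Subgroup.subtype_apply, orderOf_coe, MulEquiv.coe_toMonoidHom,
        MulEquiv.orderOf_eq]

end H22.CN
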