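import Mathlib
import Cfsg.Agent.H22.CN.Main
import Cfsg.Agent.H84.CNMaxNilpotent
import Cfsg.Agent.H13.CNOdd
import Cfsg.Agent.H11.CIT.Basic
import Cfsg.Agent.S1473
import Cfsg.Agent.S0042

/-!
In a non-solvable CN-group the centralisers of involutions are 2-groups.
-/

set_option autoImplicit false
set_option linter.style.haveILetI false

open Cfsg

namespace H22.CN

open Subgroup

universe u

variable {G : Type u} [Group G] [Finite G]

theorem isSolvable_of_normal_nilpotent_even (hCN : IsCNGroup G) (H : Subgroup G) [H.Normal]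
    (hH : Group.IsNilpotent H) (h2 : 2 ∣ Nat.card H) (hcop : (Nat.card H).Coprime H.index) :
    Group.IsSolvable G := by
  haveI := hH
  haveI : Group.IsSolvable H := inferInstance
  have hodd : Odd (Nat.card (G ⧸ H)) := by
    rw [← Subgroup.index_eq_card]
    exact Nat.odd_iff.2 (Nat.two_dvd_ne_zero.1 fun h =>
      Nat.prime_two.not_dvd_one (hcop ▸ Nat.dvd_gcd h2 h))
  haveI := H13.CN.solvable_of_odd hodd (Cfsg.Agent.S1473.result hCN H inferInstance)
  exact Group.isSolvable_of_ker_le_range H.subtype (QuotientGroup.mk' H) (by simp)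

theorem isSolvable_of_frobeniusComplement (H : Subgroup G) (hH : Group.IsNilpotent H)
    (hF : IsFrobeniusComplement H) : Group.IsSolvable G := by
  obtain ⟨K, hK, hKn, hKc⟩ := H2.exists_kernel hF
  obtain ⟨K', hK', -, hnil⟩ := Cfsg.Agent.S0042.result H hF
  have e : K' = K := SetLike.coe_injective (hK'.trans hK.symm)
  subst e
  haveI := hKn
  haveI := hnil
  haveI := hH
  haveI : Group.IsSolvable K' := inferInstance
  haveI : Group.IsSolvable (G ⧸ K') :=
    Group.isSolvable_of_surjective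
      (f := ((hKc.symm).QuotientMulEquiv : G ⧸ K' ≃* H).symm.toMonoidHom)
      ((hKc.symm).QuotientMulEquiv : G ⧸ K' ≃* H).symm.surjective
  exact Group.isSolvable_of_ker_le_range K'.subtype (QuotientGroup.mk' K') (by simp)

theorem isCIT_of_cn (hCN : IsCNGroup G) (hns : ¬ Group.IsSolvable G) : H11.CIT.IsCIT G := by
  classical
  haveI : Fact (Nat.Prime 2) := ⟨Nat.prime_two⟩
  intro t ht
  by_contra hC
  have ht1 : t ≠ 1 := fun e => by rw [e, orderOf_one] at ht; omega
  obtain ⟨H, hH⟩ := (Set.toFinite {L : Subgroup G | Group.IsNilpotent L ∧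
    centralizer ({t} : Set G) ≤ L}).exists_maximal ⟨_, hCN t ht1, le_rfl⟩
  obtain ⟨hnil, hCH⟩ := hH.1
  have hmax : ∀ L : Subgroup G, Group.IsNilpotent L → H ≤ L → L = H := fun L hL hle =>
    le_antisymm (hH.2 (y := L) ⟨hL, hCH.trans hle⟩ hle) hle
  have htH : t ∈ H := hCH (mem_centralizer_singleton_iff.2 rfl)
  have h2 : 2 ∣ Nat.card H := ht ▸ Subgroup.orderOf_dvd_natCard H htH
  have hnot : ¬ IsPGroup 2 H := fun h => hC (h.to_le hCH)
  have hnp : ¬ IsPrimePow (Nat.card H) := by
    intro hpp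
    obtain ⟨p, k, hp, -, hpk⟩ := (isPrimePow_nat_iff _).1 hpp
    have hp2 : 2 = p :=
      (Nat.prime_dvd_prime_iff_eq Nat.prime_two hp).1 (Nat.prime_two.dvd_of_dvd_pow (hpk ▸ h2))
    subst hp2
    exact hnot (IsPGroup.iff_card.2 ⟨k, hpk.symm⟩)
  have hTI := H84.maxNilp_ti hCN hnil hmax hnp
  have hcop := H84.maxNilp_coprime hCN hnil hmax
  have hhyp : H13.TI.Hyp H := by
    refine ⟨fun g x hx hx1 hgx => ?_, fun g x hx hx1 hgx => ?_⟩
    · rw [Subgroup.mem_normalizer_iff_map_conj_eq]
      by_contra hne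
      have hmem : g * x * g⁻¹ ∈ H ⊓ H.map (MulAut.conj g).toMonoidHom := ⟨hgx, x, hx, rfl⟩
      rw [hTI g hne, mem_bot] at hmem
      exact hx1 (conj_eq_one_iff.1 hmem)
    · exact H84.maxNilp_centralizer_le hCN hnil hmax hTI hx hx1
        (mem_centralizer_singleton_iff.2 hgx)
  have hproper : normalizer (H : Set G) ≠ ⊤ := by
    intro htop
    haveI : H.Normal := Subgroup.normalizer_eq_top_iff.1 htop
    exact hns (isSolvable_of_normal_nilpotent_even hCN H hnil h2 hcop)
  haveI := Fintype.ofFinite G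
  have hs : Setting H := ⟨hhyp, hnil, hcop, h2, hproper⟩
  by_cases he : H.relIndex (normalizer (H : Set G)) = 1
  · refine hns (isSolvable_of_frobeniusComplement H hnil ⟨fun e => ?_, fun e => ?_, fun g hg => ?_⟩)
    · rw [e, mem_bot] at htH
      exact ht1 htH
    · refine hproper (eq_top_iff.2 fun x _ => le_normalizer ?_)
      rw [e]; exact mem_top x
    · rw [eq_bot_iff]
      rintro x ⟨hx, hx'⟩
      obtain ⟨y, hy, rfl⟩ := hx'
      rw [mem_bot]
      by_contra hne
      have hy1 : y ≠ 1 := fun e => hne (by simp [e])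
      exact hg (relIndex_eq_one.1 he (hhyp.ti g y hy hy1 hx))
  · exact false_of_setting hs hnot he

end H22.CN
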